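import Cfsg.Agent.Lib.ThreeTransUnitary95.Frame

/-!
Lib/ThreeTransUnitary95/Complement: an extension of `SU₅(2)` by an abelian group on which the elements
`diag (o, o, o, o, o²)` act without fixed points splits: lifts of these elements can be chosen for all unit
vectors so that orthogonal ones commute, and the stabiliser of the choice is a complement.
Owner: helper95.
-/

set_option autoImplicit false
set_option linter.unusedSectionVars false

namespace Cfsg.Agent.Lib.ThreeTransUnitary95.Complement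

open Cfsg Cfsg.Agent.Lib.Unitary Cfsg.Agent.Lib.UnitaryFour.Transvection
  Cfsg.Agent.Lib.ThreeTransUnitary95.Frame

universe u

variable {F : Type} [Field F] [Fintype F]

local notation "h⟪" u ", " v "⟫" => hermForm 5 F 2 u v

/-- A unit vector in the orthogonal of two given units (`c`, `c'` orthogonal) and a third. -/
theorem exists_common_pair (hF : Fintype.card F = 2 ^ 2) {a c c' : Fin 5 → F} (hc : h⟪c, c⟫ = 1)
    (hc' : h⟪c', c'⟫ = 1) (hcc : h⟪c, c'⟫ = 0) :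
    ∃ d, h⟪d, d⟫ = 1 ∧ h⟪d, a⟫ = 0 ∧ h⟪d, c⟫ = 0 ∧ h⟪d, c'⟫ = 0 := by
  obtain ⟨b, hb, rfl, rfl⟩ := extend_two hF hc hc' hcc
  by_cases h : ∃ i : Fin 5, i ≠ 0 ∧ i ≠ 1 ∧ h⟪a, b i⟫ = 0
  · obtain ⟨i, i0, i1, hi⟩ := h
    exact ⟨b i, by rw [hb i i, if_pos rfl], herm_eq_zero_symm hF hi, by rw [hb i 0, if_neg i0],
      by rw [hb i 1, if_neg i1]⟩
  push Not at h
  obtain ⟨o, ho0, ho1, ho⟩ := exists_omega hF
  have hco : ∀ i, h⟪b i, a⟫ = h⟪a, b i⟫ ^ 2 := fun i => (herm_conj a (b i) hF).symm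
  refine ⟨h⟪a, b 2⟫ • b 2 + (o * h⟪a, b 3⟫) • b 3 + (o ^ 2 * h⟪a, b 4⟫) • b 4, ?_, ?_, ?_, ?_⟩
  · simp only [herm_add_left, herm_add_right _ _ _ hF, herm_smul_left, herm_smul_right, hb _ _]
    simp
    linear_combination norm_eq_one hF (h 2 (by decide) (by decide)) +
      norm_eq_one hF (mul_ne_zero ho0 (h 3 (by decide) (by decide))) +
      norm_eq_one hF (mul_ne_zero (pow_ne_zero 2 ho0) (h 4 (by decide) (by decide))) + two_eq_zero hF
  · simp only [herm_add_left, herm_smul_left, hco]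
    linear_combination norm_eq_one hF (h 2 (by decide) (by decide)) +
      o * norm_eq_one hF (h 3 (by decide) (by decide)) +
      o ^ 2 * norm_eq_one hF (h 4 (by decide) (by decide)) + ho
  · simp only [herm_add_left, herm_smul_left, hb _ _]
    simp
  · simp only [herm_add_left, herm_smul_left, hb _ _]
    simp

/-- For non-orthogonal non-parallel units `a`, `c` and units `b`, `b'` non-orthogonal in their common orthogonal,
a unit vector orthogonal to all four. -/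
theorem exists_common_four (hF : Fintype.card F = 2 ^ 2) {a c b b' : Fin 5 → F} (ha : h⟪a, a⟫ = 1)
    (hc : h⟪c, c⟫ = 1) (hb : h⟪b, b⟫ = 1) (hb' : h⟪b', b'⟫ = 1) (hac : h⟪c, a⟫ ≠ 0)
    (hpar : ∀ l : F, c ≠ l • a) (hba : h⟪b, a⟫ = 0) (hbc : h⟪b, c⟫ = 0) (hb'a : h⟪b', a⟫ = 0)
    (hb'c : h⟪b', c⟫ = 0) (hbb : h⟪b', b⟫ ≠ 0) :
    ∃ u, h⟪u, u⟫ = 1 ∧ h⟪u, a⟫ = 0 ∧ h⟪u, c⟫ = 0 ∧ h⟪u, b⟫ = 0 ∧ h⟪u, b'⟫ = 0 := by
  obtain ⟨f, hf, rfl, rfl⟩ := extend_two hF ha hb (herm_eq_zero_symm hF hba)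
  have h1 : (1 : F) ≠ 0 := one_ne_zero
  have h2 := two_eq_zero hF
  have hc1 : h⟪c, f 1⟫ = 0 := herm_eq_zero_symm hF hbc
  suffices ∃ k : Fin 5, k ≠ 0 ∧ k ≠ 1 ∧ h⟪c, f k⟫ = 0 ∧ h⟪b', f k⟫ = 0 by
    obtain ⟨k, k0, k1, kc, kb⟩ := this
    exact ⟨f k, by rw [hf k k, if_pos rfl], by rw [hf k 0, if_neg k0], herm_eq_zero_symm hF kc,
      by rw [hf k 1, if_neg k1], herm_eq_zero_symm hF kb⟩
  have nc := norm_coord hF hf c
  have nb := norm_coord hF hf b'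
  have hcb := herm_coord hF hf b' c
  rw [Fin.sum_univ_five] at nc nb hcb
  rw [hc, hc1, norm_eq_one hF hac] at nc
  rw [hb', hb'a, norm_eq_one hF hbb] at nb
  rw [hb'c, hb'a, hc1] at hcb
  simp only [zero_pow two_ne_zero, mul_zero, zero_mul, zero_add, add_zero] at nc nb hcb
  have key : ∀ x y : F, x ≠ 0 → y ≠ 0 → ∀ s t z : F, s * x ^ 2 + t * y ^ 2 = 0 →
      (1 : F) = 1 + z * z ^ 2 + s * s ^ 2 + t * t ^ 2 → z = 0 := by
    intro x y hx hy s t z hst hn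
    rcases cube_cases hF z with ⟨hz, -⟩ | ⟨-, hz⟩
    · exact hz
    exfalso
    rcases cube_cases hF s with ⟨hs, hs'⟩ | ⟨hs, hs'⟩ <;> rcases cube_cases hF t with ⟨ht, ht'⟩ | ⟨ht, ht'⟩
    · rw [hz, hs', ht'] at hn; exact h1 (by linear_combination -hn)
    · rw [hs, zero_mul, zero_add] at hst
      exact mul_ne_zero ht (pow_ne_zero 2 hy) hst
    · rw [ht, zero_mul, add_zero] at hst
      exact mul_ne_zero hs (pow_ne_zero 2 hx) hst
    · rw [hz, hs', ht'] at hn; exact h1 (by linear_combination -hn - h2)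
  have par : h⟪c, f 2⟫ = 0 → h⟪c, f 3⟫ = 0 → h⟪c, f 4⟫ = 0 → False := fun e2 e3 e4 => by
    refine hpar h⟪c, f 0⟫ ?_
    conv_lhs => rw [expand hf c]
    rw [Fin.sum_univ_five, hc1, e2, e3, e4]
    simp
  rcases cube_cases hF h⟪c, f 2⟫ with ⟨e2, q2⟩ | ⟨e2, q2⟩ <;>
    rcases cube_cases hF h⟪c, f 3⟫ with ⟨e3, q3⟩ | ⟨e3, q3⟩ <;>
    rcases cube_cases hF h⟪c, f 4⟫ with ⟨e4, q4⟩ | ⟨e4, q4⟩
  · exact (par e2 e3 e4).elim
  · rw [q2, q3, q4] at nc; exact absurd (by linear_combination -nc : (1 : F) = 0) h1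
  · rw [q2, q3, q4] at nc; exact absurd (by linear_combination -nc : (1 : F) = 0) h1
  · exact ⟨2, by decide, by decide, e2, key _ _ e3 e4 h⟪b', f 3⟫ h⟪b', f 4⟫ _
      (by rw [e2] at hcb; linear_combination -hcb) (by linear_combination nb)⟩
  · rw [q2, q3, q4] at nc; exact absurd (by linear_combination -nc : (1 : F) = 0) h1
  · exact ⟨3, by decide, by decide, e3, key _ _ e2 e4 h⟪b', f 2⟫ h⟪b', f 4⟫ _
      (by rw [e3] at hcb; linear_combination -hcb) (by linear_combination nb)⟩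
  · exact ⟨4, by decide, by decide, e4, key _ _ e2 e3 h⟪b', f 2⟫ h⟪b', f 3⟫ _
      (by rw [e4] at hcb; linear_combination -hcb) (by linear_combination nb)⟩
  · rw [q2, q3, q4] at nc; exact absurd (by linear_combination -nc - h2 : (1 : F) = 0) h1

variable {G : Type u} [Group G] [Finite G]

section

variable (hF : Fintype.card F = 2 ^ 2) {o : F} (ho : o ^ 2 + o + 1 = 0) (π : G →* SU 5 F 2)
  (hπ : Function.Surjective π)
  (hfree : ∀ (a : Fin 5 → F) (ha : hermForm 5 F 2 a a = 1) (y : G), π y = zel hF ho a ha →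
    ∀ v : G, π v = 1 → Commute y v → v = 1)
  (hab : ∀ v w : G, π v = 1 → π w = 1 → Commute v w)

include hfree

theorem uniq {b : Fin 5 → F} {hb : h⟪b, b⟫ = 1} {y w w' : G} (hy : π y = zel hF ho b hb)
    (he : π w = π w') (hw : Commute y w) (hw' : Commute y w') : w = w' := by
  have := hfree b hb y hy (w * w'⁻¹) (by rw [map_mul, map_inv, he, mul_inv_cancel]) (hw.mul_right hw'.inv_right)
  exact mul_inv_eq_one.1 this

theorem comm_of {b : Fin 5 → F} {hb : h⟪b, b⟫ = 1} {y w w' : G} (hy : π y = zel hF ho b hb)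
    (hc : Commute (π w) (π w')) (hw : Commute y w) (hw' : Commute y w') : Commute w w' :=
  uniq hF ho π hfree hy (by rw [map_mul, map_mul, hc.eq]) (hw.mul_right hw') (hw'.mul_right hw)

include hab

/-- All lifts of one element are conjugate under the kernel. -/
theorem conj_lift {b : Fin 5 → F} {hb : h⟪b, b⟫ = 1} {y y' : G} (hy : π y = zel hF ho b hb)
    (he : π y' = π y) : ∃ v : G, π v = 1 ∧ v * y * v⁻¹ = y' := by
  let f : π.ker → π.ker := fun v => ⟨v.1 * y * v.1⁻¹ * y⁻¹, by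
    simp [MonoidHom.mem_ker, MonoidHom.mem_ker.1 v.2]⟩
  have hinj : Function.Injective f := fun v w h => by
    have e : v.1 * y * v.1⁻¹ = w.1 * y * w.1⁻¹ := mul_right_cancel (congrArg Subtype.val h)
    have hc : Commute y (w.1⁻¹ * v.1) := by
      refine (mul_inv_eq_iff_eq_mul.1 ?_).symm
      calc w.1⁻¹ * v.1 * y * (w.1⁻¹ * v.1)⁻¹ = w.1⁻¹ * (v.1 * y * v.1⁻¹) * w.1 := by group
        _ = y := by rw [e]; group
    exact Subtype.ext (inv_mul_eq_one.1 (hfree b hb y hy _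
      (by rw [map_mul, map_inv, MonoidHom.mem_ker.1 v.2, MonoidHom.mem_ker.1 w.2]; simp) hc)).symm
  obtain ⟨v, hv⟩ := Finite.injective_iff_surjective.1 hinj ⟨y' * y⁻¹, by simp [MonoidHom.mem_ker, he]⟩
  exact ⟨v.1, v.2, mul_right_cancel (congrArg Subtype.val hv)⟩

include hπ

theorem lift_comm {b : Fin 5 → F} {hb : h⟪b, b⟫ = 1} {y : G} (hy : π y = zel hF ho b hb) {s : SU 5 F 2}
    (hs : Commute (zel hF ho b hb) s) : ∃ w : G, π w = s ∧ Commute y w := by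
  obtain ⟨w, hw⟩ := hπ s
  obtain ⟨v, hv, e⟩ := conj_lift hF ho π hfree hab hy (y' := w * y * w⁻¹)
    (by rw [map_mul, map_mul, map_inv, hw, hy, ← hs.eq, mul_inv_cancel_right])
  refine ⟨v⁻¹ * w, by rw [map_mul, map_inv, hv, hw, inv_one, one_mul],
    (mul_inv_eq_iff_eq_mul.1 ?_).symm⟩
  calc v⁻¹ * w * y * (v⁻¹ * w)⁻¹ = v⁻¹ * (w * y * w⁻¹) * v := by group
    _ = y := by rw [← e]; group

variable {a₀ : Fin 5 → F} {ha₀ : hermForm 5 F 2 a₀ a₀ = 1} {y₀ : G} (hy₀ : π y₀ = zel hF ho a₀ ha₀)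

omit hπ hfree hab in
/-- `w` is the lift for `c` transported from `y₀` through a common orthogonal unit vector. -/
def Path (y₀ : G) (a₀ : Fin 5 → F) (c : Fin 5 → F) (hc : h⟪c, c⟫ = 1) (w : G) : Prop :=
  π w = zel hF ho c hc ∧ ∃ (b : Fin 5 → F) (hb : h⟪b, b⟫ = 1) (yb : G), h⟪b, a₀⟫ = 0 ∧ h⟪b, c⟫ = 0 ∧
    π yb = zel hF ho b hb ∧ Commute y₀ yb ∧ Commute yb w

include hy₀

theorem path_exists (c : Fin 5 → F) (hc : h⟪c, c⟫ = 1) : ∃ w, Path hF ho π y₀ a₀ c hc w := by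
  obtain ⟨b, hb, hba, hbc⟩ := exists_unit_orth_two hF (c := c) ha₀
  obtain ⟨yb, hyb, h0⟩ := lift_comm hF ho π hπ hfree hab hy₀
    (zel_comm hF ho ha₀ hb (herm_eq_zero_symm hF hba))
  obtain ⟨w, hw, h1⟩ := lift_comm hF ho π hπ hfree hab hyb (zel_comm hF ho hb hc hbc)
  exact ⟨w, hw, b, hb, yb, hba, hbc, hyb, h0, h1⟩

theorem path_unique {c : Fin 5 → F} {hc : h⟪c, c⟫ = 1} {w w' : G} (h : Path hF ho π y₀ a₀ c hc w)
    (h' : Path hF ho π y₀ a₀ c hc w') : w = w' := by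
  obtain ⟨hw, b, hb, yb, hba, hbc, hyb, h0, h1⟩ := h
  obtain ⟨hw', b', hb', yb', hba', hbc', hyb', h0', h1'⟩ := h'
  by_cases hcomm : Commute (zel hF ho a₀ ha₀) (zel hF ho c hc)
  · refine uniq hF ho π hfree hy₀ (hw.trans hw'.symm) ?_ ?_
    · exact comm_of hF ho π hfree hyb (by rw [hy₀, hw]; exact hcomm) h0.symm h1
    · exact comm_of hF ho π hfree hyb' (by rw [hy₀, hw']; exact hcomm) h0'.symm h1'
  have step : ∀ {b₁ b₂ : Fin 5 → F} {hb₁ : h⟪b₁, b₁⟫ = 1} {hb₂ : h⟪b₂, b₂⟫ = 1} {y₁ y₂ w₁ w₂ : G},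
      h⟪b₁, b₂⟫ = 0 → h⟪b₂, c⟫ = 0 → π y₁ = zel hF ho b₁ hb₁ → π y₂ = zel hF ho b₂ hb₂ →
      Commute y₀ y₁ → Commute y₀ y₂ → Commute y₁ w₁ → Commute y₂ w₂ →
      π w₁ = zel hF ho c hc → π w₂ = zel hF ho c hc → w₁ = w₂ := by
    intro b₁ b₂ hb₁ hb₂ y₁ y₂ w₁ w₂ h12 h2c e1 e2 c01 c02 c1 c2 p1 p2
    have c12 : Commute y₁ y₂ :=
      comm_of hF ho π hfree hy₀ (by rw [e1, e2]; exact zel_comm hF ho hb₁ hb₂ h12) c01 c02
    have c21 : Commute y₂ w₁ :=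
      comm_of hF ho π hfree e1 (by rw [e2, p1]; exact zel_comm hF ho hb₂ hc h2c) c12 c1
    exact uniq hF ho π hfree e2 (p1.trans p2.symm) c21 c2
  by_cases hbb : h⟪b', b⟫ = 0
  · exact step (herm_eq_zero_symm hF hbb) hbc' hyb hyb' h0 h0' h1 h1' hw hw'
  have hca : h⟪c, a₀⟫ ≠ 0 := fun e => hcomm (zel_comm hF ho ha₀ hc (herm_eq_zero_symm hF e))
  have hpar : ∀ l : F, c ≠ l • a₀ := fun l e => by
    subst e
    have hl : l ≠ 0 := fun e => by subst e; simp [herm_zero_left] at hc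
    exact hcomm (zel_smul hF ho ha₀ hl hc ▸ Commute.refl _)
  obtain ⟨u, hu, hua, huc, hub, hub'⟩ := exists_common_four hF ha₀ hc hb hb' hca hpar hba hbc hba' hbc' hbb
  obtain ⟨yu, hyu, h0u⟩ := lift_comm hF ho π hπ hfree hab hy₀
    (zel_comm hF ho ha₀ hu (herm_eq_zero_symm hF hua))
  obtain ⟨wu, hwu, h1u⟩ := lift_comm hF ho π hπ hfree hab hyu (zel_comm hF ho hu hc huc)
  exact (step (herm_eq_zero_symm hF hub) huc hyb hyu h0 h0u h1 h1u hw hwu).trans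
    (step hub' hbc' hyu hyb' h0u h0' h1u h1' hwu hw')

omit hy₀ in
/-- A family of lifts in which orthogonal ones commute. -/
def Family (ζ : {c : Fin 5 → F // h⟪c, c⟫ = 1} → G) : Prop :=
  (∀ c, π (ζ c) = zel hF ho c.1 c.2) ∧ ∀ c c', h⟪c.1, c'.1⟫ = 0 → Commute (ζ c) (ζ c')

theorem family_exists :
    ∃ ζ, Family hF ho π ζ ∧ ζ ⟨a₀, ha₀⟩ = y₀ ∧
      ∀ η, Family hF ho π η → η ⟨a₀, ha₀⟩ = y₀ → η = ζ := by
  choose ζ hζ using fun c : {c : Fin 5 → F // h⟪c, c⟫ = 1} =>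
    path_exists hF ho π hπ hfree hab hy₀ c.1 c.2
  refine ⟨ζ, ⟨fun c => (hζ c).1, fun c c' hcc => ?_⟩, ?_, fun η hη he => funext fun c => ?_⟩
  · obtain ⟨d, hd, hda, hdc, hdc'⟩ := exists_common_pair hF (a := a₀) c.2 c'.2 hcc
    obtain ⟨yd, hyd, h0⟩ := lift_comm hF ho π hπ hfree hab hy₀
      (zel_comm hF ho ha₀ hd (herm_eq_zero_symm hF hda))
    obtain ⟨w, hw, h1⟩ := lift_comm hF ho π hπ hfree hab hyd (zel_comm hF ho hd c.2 hdc)
    obtain ⟨w', hw', h1'⟩ := lift_comm hF ho π hπ hfree hab hyd (zel_comm hF ho hd c'.2 hdc')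
    rw [path_unique hF ho π hπ hfree hab hy₀ (hζ c) ⟨hw, d, hd, yd, hda, hdc, hyd, h0, h1⟩,
      path_unique hF ho π hπ hfree hab hy₀ (hζ c') ⟨hw', d, hd, yd, hda, hdc', hyd, h0, h1'⟩]
    exact comm_of hF ho π hfree hyd (by rw [hw, hw']; exact zel_comm hF ho c.2 c'.2 hcc) h1 h1'
  · obtain ⟨-, b, hb, yb, hba, hbc, hyb, h0, -⟩ := hζ ⟨a₀, ha₀⟩
    exact path_unique hF ho π hπ hfree hab hy₀ (hζ ⟨a₀, ha₀⟩) ⟨hy₀, b, hb, yb, hba, hba, hyb, h0, h0.symm⟩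
  · obtain ⟨d, hd, hda, hdc⟩ := exists_unit_orth_two hF (c := c.1) ha₀
    refine path_unique hF ho π hπ hfree hab hy₀ ⟨hη.1 c, d, hd, η ⟨d, hd⟩, hda, hdc, hη.1 ⟨d, hd⟩, ?_, ?_⟩ (hζ c)
    · rw [← he]; exact hη.2 _ _ (herm_eq_zero_symm hF hda)
    · exact hη.2 _ _ hdc

omit hy₀

/-- The extension splits. -/
theorem exists_complement : ∃ K : Subgroup G, π.ker.IsComplement' K := by
  let a₀ : Fin 5 → F := Pi.single 0 1
  have ha₀ : h⟪a₀, a₀⟫ = 1 := by simp [a₀, herm_std hF]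
  obtain ⟨y₀, hy₀⟩ := hπ (zel hF ho a₀ ha₀)
  obtain ⟨ζ, hζ, hζ0, huni⟩ := family_exists hF ho π hπ hfree hab hy₀
  have hact : ∀ (s : SU 5 F 2) (c : {c : Fin 5 → F // h⟪c, c⟫ = 1}), h⟪act s c.1, act s c.1⟫ = 1 :=
    fun s c => by rw [act_herm]; exact c.2
  let X : Subgroup G :=
    { carrier := {g | ∀ c, g * ζ c * g⁻¹ = ζ ⟨act (π g) c.1, hact _ c⟩}
      one_mem' := fun c => by simp [act_one]
      mul_mem' := by
        intro g k hg hk c
        rw [show g * k * ζ c * (g * k)⁻¹ = g * (k * ζ c * k⁻¹) * g⁻¹ by group, hk c, hg]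
        simp [act_mul]
      inv_mem' := by
        intro g hg c
        have h := hg ⟨act (π g⁻¹) c.1, hact _ c⟩
        simp only [← act_mul, ← map_mul, mul_inv_cancel, map_one, act_one, Subtype.coe_eta] at h
        rw [← h]; group }
  refine ⟨X, Subgroup.isComplement'_of_disjoint_and_mul_eq_univ ?_ ?_⟩
  · rw [Subgroup.disjoint_def]
    intro v hv hX
    refine hfree a₀ ha₀ y₀ hy₀ v hv ?_
    have h := hX ⟨a₀, ha₀⟩
    simp only [MonoidHom.mem_ker.1 hv, act_one, hζ0] at h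
    exact (mul_inv_eq_iff_eq_mul.1 h).symm
  · refine Set.eq_univ_of_forall fun g => ?_
    set s := π g with hs
    set y₁ := ζ ⟨act s a₀, hact s ⟨a₀, ha₀⟩⟩ with hy₁
    have hge : π (g * y₀ * g⁻¹) = zel hF ho (act s a₀) (hact s ⟨a₀, ha₀⟩) := by
      rw [map_mul, map_mul, map_inv, hy₀, ← hs, zel_conj hF ho s ha₀ (hact s ⟨a₀, ha₀⟩)]
    obtain ⟨v, hv, hve⟩ := conj_lift hF ho π hfree hab hge (y' := y₁) (by rw [hy₁, hζ.1, hge])
    have hvg : π (v * g) = s := by rw [map_mul, hv, one_mul]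
    let η : {c : Fin 5 → F // h⟪c, c⟫ = 1} → G :=
      fun c => (v * g)⁻¹ * ζ ⟨act s c.1, hact s c⟩ * (v * g)
    have hη : Family hF ho π η := by
      refine ⟨fun c => ?_, fun c c' hcc => ?_⟩
      · simp only [η, map_mul, map_inv, hv, one_mul, hζ.1, ← hs, zel_conj hF ho s c.2 (hact s c)]
        group
      · have := hζ.2 ⟨act s c.1, hact s c⟩ ⟨act s c'.1, hact s c'⟩ (by rw [act_herm]; exact hcc)
        simpa [η, mul_assoc] using this.map (MulAut.conj (v * g)⁻¹).toMonoidHom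
    have hη0 : η ⟨a₀, ha₀⟩ = y₀ := by
      simp only [η, ← hy₁, ← hve]; group
    have hX : v * g ∈ X := fun c => by
      have h := congrFun (huni η hη hη0) c
      conv_lhs => rw [← h]
      simp only [η, hvg]
      group
    exact ⟨v⁻¹, by simpa [MonoidHom.mem_ker] using hv, v * g, hX, by group⟩

end

end Cfsg.Agent.Lib.ThreeTransUnitary95.Complement
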