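import Mathlib
import Cfsg.Prelude.Def_SporadicB
import Cfsg.Prelude.Def_Transfer
import Cfsg.Agent.Lib.ThreeTranspositions.Basic

/-!
Lib/ThreeTransUnitary95/Core: the 2-radical of a 3-transposition group with trivial centre is elementary
abelian, given three properties of the quotient: the transpositions commuting with one of two non-commuting
ones generate, some odd number of pairwise commuting ones multiply to one, and there is no perfect central
extension by a 2-group.
Owner: helper95.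
-/

set_option autoImplicit false
set_option linter.unusedSectionVars false

namespace Cfsg.Agent.Lib.ThreeTransUnitary95.Core

open Cfsg Subgroup Cfsg.Agent.Lib.ThreeTranspositions
open scoped commutatorElement

universe u v

variable {G : Type u} {S : Type v} [Group G] [Group S] [Finite G]

/-- The standing hypotheses. -/
structure Setup (π : G →* S) (D : Set G) : Prop where
  cls : IsThreeTranspositionClass D
  cen : center G = ⊥
  surj : Function.Surjective π
  two : IsPGroup 2 π.ker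
  gen : ∀ a ∈ π '' D, ∀ b ∈ π '' D, ∀ c ∈ π '' D, ¬ Commute a b →
    Commute c a ∨ Commute c b ∨ ∃ y ∈ π '' D, Commute y a ∧ Commute (y * c * y) b
  five : ∃ l : List G, (∀ x ∈ l, x ∈ D) ∧ (∀ x ∈ l, ∀ y ∈ l, Commute (π x) (π y)) ∧ Odd l.length ∧
    π l.prod = 1
  perfect : commutator S = ⊤
  split : ∀ (E : Type u) [Group E] [Finite E] (σ : E →* S), Function.Surjective σ → σ.ker ≤ center E →
    IsPGroup 2 σ.ker → commutator E = ⊤ → σ.ker = ⊥

/-- Products of two transpositions with the same image. -/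
def pairs (π : G →* S) (D : Set G) (a : S) : Set G :=
  {z | ∃ x ∈ D, ∃ y ∈ D, π x = a ∧ π y = a ∧ z = x * y}

/-- The subgroup generated by all products of two transpositions with the same image. -/
def Q₀ (π : G →* S) (D : Set G) : Subgroup G := closure {z | ∃ a, z ∈ pairs π D a}

variable {π : G →* S} {D : Set G} (H : Setup π D)

include H

theorem set' : IsThreeTranspositionSet D := H.cls.1

theorem mem_conj (g : G) {d : G} (hd : d ∈ D) : g * d * g⁻¹ ∈ D := class_conj_mem H.cls g hd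

theorem sq_one {d : G} (hd : d ∈ D) : d * d = 1 := mul_self H.cls.1 hd

theorem inv_d {d : G} (hd : d ∈ D) : d⁻¹ = d := inv_eq H.cls.1 hd

theorem eq_one_of_two_of_three {z : G} (hz : π z = 1) (h : z ^ 3 = 1) : z = 1 := by
  obtain ⟨k, hk⟩ := H.two ⟨z, hz⟩
  have hk' : z ^ 2 ^ k = 1 := congrArg Subtype.val hk
  exact orderOf_eq_one_iff.1 (Nat.eq_one_of_dvd_coprimes
    (Nat.Coprime.pow_left k (by norm_num : Nat.Coprime 2 3))
    (orderOf_dvd_of_pow_eq_one hk') (orderOf_dvd_of_pow_eq_one h))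

/-- Transpositions with commuting images commute. -/
theorem commute_of_map {d e : G} (hd : d ∈ D) (he : e ∈ D) (h : Commute (π d) (π e)) : Commute d e := by
  rcases H.cls.1.2 d hd e he with h2 | h3
  · exact commute_of_sq_eq_one (sq_one H hd) (sq_one H he) h2
  · have h2 : π (d * e) ^ 2 = 1 := by
      rw [map_mul, h.mul_pow, sq, sq, ← map_mul, ← map_mul, sq_one H hd, sq_one H he, map_one, mul_one]
    have h1 : π (d * e) = 1 := by
      have h3' : π (d * e) ^ 3 = 1 := by rw [← map_pow, h3, map_one]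
      rwa [pow_succ, h2, one_mul] at h3'
    have := eq_one_of_two_of_three H h1 h3
    rw [mul_eq_one_iff_eq_inv, inv_d H he] at this
    rw [this]

theorem pairs_sq {a : S} {z : G} (hz : z ∈ pairs π D a) : z * z = 1 := by
  obtain ⟨x, hx, y, hy, hxa, hya, rfl⟩ := hz
  have hc : Commute x y := commute_of_map H hx hy (by rw [hxa, hya])
  rw [hc.symm.mul_mul_mul_comm, sq_one H hx, sq_one H hy, one_mul]

theorem pairs_map {a : S} {z : G} (hz : z ∈ pairs π D a) : π z = 1 := by
  obtain ⟨x, hx, y, hy, hxa, hya, rfl⟩ := hz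
  rw [map_mul, hya, ← hxa, ← map_mul, sq_one H hx, map_one]

theorem pairs_conj (g : G) {a : S} {z : G} (hz : z ∈ pairs π D a) :
    g * z * g⁻¹ ∈ pairs π D (π g * a * (π g)⁻¹) := by
  obtain ⟨x, hx, y, hy, hxa, hya, rfl⟩ := hz
  exact ⟨g * x * g⁻¹, mem_conj H g hx, g * y * g⁻¹, mem_conj H g hy, by simp [hxa], by simp [hya],
    by group⟩

theorem pairs_commute_d {a : S} {z h : G} (hz : z ∈ pairs π D a) (hh : h ∈ D) (hc : Commute (π h) a) :
    Commute h z := by
  obtain ⟨x, hx, y, hy, rfl, hya, rfl⟩ := hz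
  exact (commute_of_map H hh hx hc).mul_right (commute_of_map H hh hy (hya ▸ hc))

theorem pairs_commute {a b : S} {z w : G} (hz : z ∈ pairs π D a) (hw : w ∈ pairs π D b)
    (hc : Commute a b) : Commute z w := by
  obtain ⟨x, hx, y, hy, hxa, hya, rfl⟩ := hz
  exact (pairs_commute_d H hw hx (hxa ▸ hc)).mul_left (pairs_commute_d H hw hy (hya ▸ hc))

/-- Commutators of a transposition with the radical. -/
theorem shift_mem {x h : G} (hx : π x = 1) (hh : h ∈ D) : x⁻¹ * h * x * h ∈ pairs π D (π h) :=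
  ⟨x⁻¹ * h * x, by simpa using mem_conj H x⁻¹ hh, h, hh, by simp [hx], rfl, rfl⟩

theorem mem_center_of_D {c : G} (hc : ∀ d ∈ D, Commute d c) : c = 1 := by
  have : c ∈ center G := mem_center_of_commute_gen H.cls.2.2 (fun d hd => (hc d hd).symm)
  rwa [H.cen, mem_bot] at this

theorem closure_gen {a b : S} (ha : a ∈ π '' D) (hb : b ∈ π '' D) (hab : ¬ Commute a b) {M : Subgroup G}
    (hM : ∀ h ∈ D, Commute (π h) a ∨ Commute (π h) b → h ∈ M) : M = ⊤ := by
  refine eq_top_iff.2 (H.cls.2.2 ▸ (closure_le M).2 fun f hf => ?_)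
  rcases H.gen a ha b hb (π f) ⟨f, hf, rfl⟩ hab with h | h | ⟨_, ⟨y, hy, rfl⟩, h1, h2⟩
  · exact hM f hf (Or.inl h)
  · exact hM f hf (Or.inr h)
  · have hy' : y ∈ M := hM y hy (Or.inl h1)
    have hf' : y * f * y ∈ D := by simpa [inv_d H hy] using mem_conj H y hf
    have hm : y * f * y ∈ M := hM _ hf' (Or.inr (by simpa using h2))
    have e : f = y * (y * f * y) * y := by
      rw [show y * (y * f * y) * y = (y * y) * f * (y * y) by group, sq_one H hy, one_mul, mul_one]
    rw [e]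
    exact mul_mem (mul_mem hy' hm) hy'

/-- Any two generators of `Q₀` commute. -/
theorem pairs_commute_all {a b : S} {z w : G} (hz : z ∈ pairs π D a) (hw : w ∈ pairs π D b) :
    Commute z w := by
  by_cases hab : Commute a b
  · exact pairs_commute H hz hw hab
  have ha : a ∈ π '' D := by
    obtain ⟨x, hx, y, hy, hxa, -, -⟩ := hz
    exact ⟨x, hx, hxa⟩
  have hb : b ∈ π '' D := by
    obtain ⟨x, hx, y, hy, hxa, -, -⟩ := hw
    exact ⟨x, hx, hxa⟩
  set c := ⁅z, w⁆ with hc
  have fix : ∀ h ∈ D, Commute (π h) a ∨ Commute (π h) b → h ∈ centralizer {c} := by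
    intro h hh hor
    have hh' := inv_d H hh
    rw [mem_centralizer_singleton_iff]
    suffices e : h * c * h⁻¹ = c from mul_inv_eq_iff_eq_mul.1 e
    rw [hc, conjugate_commutatorElement]
    rcases hor with hl | hr
    · have e1 : h * z * h⁻¹ = z := mul_inv_eq_iff_eq_mul.2 (pairs_commute_d H hz hh hl).eq
      set u := w⁻¹ * h * w * h with hu
      have cu : Commute z u := (pairs_commute H (shift_mem H (pairs_map H hw) hh) hz hl).symm
      have e2 : h * w * h⁻¹ = w * u := by rw [hu, hh']; group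
      rw [e1, e2]
      simp only [commutatorElement_def, _root_.mul_inv_rev]
      calc z * (w * u) * z⁻¹ * (u⁻¹ * w⁻¹) = z * w * (u * z⁻¹) * u⁻¹ * w⁻¹ := by group
        _ = z * w * (z⁻¹ * u) * u⁻¹ * w⁻¹ := by rw [cu.inv_left.symm.eq]
        _ = z * w * z⁻¹ * w⁻¹ := by group
    · have e1 : h * w * h⁻¹ = w := mul_inv_eq_iff_eq_mul.2 (pairs_commute_d H hw hh hr).eq
      set u := z⁻¹ * h * z * h with hu
      have cu : Commute u w := pairs_commute H (shift_mem H (pairs_map H hz) hh) hw hr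
      have e2 : h * z * h⁻¹ = z * u := by rw [hu, hh']; group
      rw [e1, e2]
      simp only [commutatorElement_def, _root_.mul_inv_rev]
      calc z * u * w * (u⁻¹ * z⁻¹) * w⁻¹ = z * (u * w) * u⁻¹ * z⁻¹ * w⁻¹ := by group
        _ = z * (w * u) * u⁻¹ * z⁻¹ * w⁻¹ := by rw [cu.eq]
        _ = z * w * z⁻¹ * w⁻¹ := by group
  have htop := closure_gen H ha hb hab fix
  exact commutatorElement_eq_one_iff_commute.1
    (mem_center_of_D H fun d _ => mem_centralizer_singleton_iff.1 (htop ▸ mem_top d))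

theorem Q₀_le_ker : Q₀ π D ≤ π.ker :=
  (closure_le _).2 fun _ ⟨_, ha⟩ => pairs_map H ha

theorem Q₀_normal : (Q₀ π D).Normal := by
  refine ⟨fun z hz g => ?_⟩
  have : Q₀ π D ≤ (Q₀ π D).comap (MulAut.conj g).toMonoidHom :=
    (closure_le _).2 fun w ⟨a, ha⟩ => subset_closure ⟨_, pairs_conj H g ha⟩
  exact this hz

theorem Q₀_comm {x y : G} (hx : x ∈ Q₀ π D) (hy : y ∈ Q₀ π D) : Commute x y := by
  have h1 : Q₀ π D ≤ centralizer {z | ∃ a, z ∈ pairs π D a} :=
    (closure_le _).2 fun z ⟨a, ha⟩ => mem_centralizer_iff.2 fun w ⟨b, hb⟩ =>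
      (pairs_commute_all H hb ha).eq
  have h2 : Q₀ π D ≤ centralizer (Q₀ π D : Set G) := by
    rw [show centralizer (Q₀ π D : Set G) = centralizer {z | ∃ a, z ∈ pairs π D a} from
      centralizer_closure _]
    exact h1
  exact (mem_centralizer_iff.1 (h2 hy) x hx)

theorem Q₀_sq {x : G} (hx : x ∈ Q₀ π D) : x * x = 1 := by
  induction hx using closure_induction with
  | mem z hz => exact pairs_sq H hz.choose_spec
  | one => rw [one_mul]
  | mul a b ha hb iha ihb => rw [(Q₀_comm H hb ha).mul_mul_mul_comm, iha, ihb, one_mul]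
  | inv a ha iha => rw [← _root_.mul_inv_rev, iha, inv_one]

/-- `[Q, G] ≤ Q₀`. -/
theorem shift_Q₀ {x : G} (hx : π x = 1) (g : G) : g * x * g⁻¹ * x⁻¹ ∈ Q₀ π D := by
  haveI := Q₀_normal H
  have : centralizer ({QuotientGroup.mk' (Q₀ π D) x} : Set (G ⧸ Q₀ π D)) = ⊤ := by
    refine eq_top_iff.2 ?_
    rw [← map_top_of_surjective _ (QuotientGroup.mk'_surjective (Q₀ π D)), ← H.cls.2.2,
      MonoidHom.map_closure, closure_le]
    rintro _ ⟨d, hd, rfl⟩
    rw [SetLike.mem_coe, mem_centralizer_singleton_iff, ← map_mul, ← map_mul,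
      QuotientGroup.mk'_eq_mk']
    refine ⟨(d * x)⁻¹ * (x * d), ?_, by group⟩
    rw [_root_.mul_inv_rev, inv_d H hd, show x⁻¹ * d * (x * d) = x⁻¹ * d * x * d by group]
    exact subset_closure ⟨_, shift_mem H hx hd⟩
  have h := mem_centralizer_singleton_iff.1 (this ▸ mem_top (QuotientGroup.mk' (Q₀ π D) g))
  rw [← QuotientGroup.eq_one_iff, ← QuotientGroup.mk'_apply, map_mul, map_mul, map_mul, h, map_inv, map_inv]
  group

/-- A product of pairwise commuting transpositions moves an element of `Q₀` inside the fixed points of each. -/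
theorem prod_shift : ∀ (l : List G), (∀ x ∈ l, x ∈ D) → ∀ (M : Subgroup G),
    (∀ d ∈ l, ∀ x ∈ Q₀ π D, d * x * d⁻¹ * x⁻¹ ∈ M) → (∀ d ∈ l, ∀ m ∈ M, Commute d m) →
    ∀ x ∈ Q₀ π D, l.prod * x * l.prod⁻¹ * x⁻¹ ∈ M := by
  intro l
  induction l with
  | nil => intro _ M _ _ x _; simp
  | cons d l ih =>
    intro hl M h1 h2 x hx
    have hm := ih (fun y hy => hl y (List.mem_cons_of_mem _ hy)) M
      (fun y hy => h1 y (List.mem_cons_of_mem _ hy)) (fun y hy => h2 y (List.mem_cons_of_mem _ hy)) x hx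
    set m := l.prod * x * l.prod⁻¹ * x⁻¹ with hm'
    have e : (d :: l).prod * x * (d :: l).prod⁻¹ * x⁻¹ = m * (d * x * d⁻¹ * x⁻¹) := by
      rw [List.prod_cons]
      calc d * l.prod * x * (d * l.prod)⁻¹ * x⁻¹ = d * m * (x * d⁻¹ * x⁻¹) := by rw [hm']; group
        _ = m * d * (x * d⁻¹ * x⁻¹) := by rw [(h2 d List.mem_cons_self m hm).eq]
        _ = _ := by group
    rw [e]
    exact mul_mem hm (h1 d List.mem_cons_self x hx)

/-- The product of the five transpositions centralises `Q₀`. -/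
theorem five_centralizes : ∃ q : G, π q = 1 ∧ (∀ x ∈ Q₀ π D, Commute q x) ∧
    ∃ l : List G, (∀ x ∈ l, x ∈ D) ∧ Odd l.length ∧ q = l.prod := by
  obtain ⟨l, hlD, hlc, hodd, hq⟩ := H.five
  refine ⟨l.prod, hq, ?_, l, hlD, hodd, rfl⟩
  obtain ⟨d₁, hd₁⟩ := List.exists_mem_of_ne_nil l (by intro h; simp [h] at hodd)
  intro x hx
  set q := l.prod with hqdef
  let M : Subgroup G := closure {z | ∃ d ∈ l, z ∈ pairs π D (π d)}
  have hM2 : ∀ d ∈ l, ∀ m ∈ M, Commute d m := fun d hd m hm => by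
    have : M ≤ centralizer {d} := (closure_le _).2 fun z ⟨e, he, hz⟩ =>
      mem_centralizer_singleton_iff.2 (pairs_commute_d H hz (hlD d hd) (hlc d hd e he)).symm.eq
    exact (mem_centralizer_singleton_iff.1 (this hm)).symm
  have hM1 : ∀ d ∈ l, ∀ y ∈ Q₀ π D, d * y * d⁻¹ * y⁻¹ ∈ M := fun d hd y hy => by
    refine subset_closure ⟨d, hd, d, hlD d hd, y * d⁻¹ * y⁻¹, ?_, rfl, ?_, by group⟩
    · rw [inv_d H (hlD d hd)]; exact mem_conj H y (hlD d hd)
    · rw [map_mul, map_mul, map_inv, map_inv, MonoidHom.mem_ker.1 (Q₀_le_ker H hy), ← map_inv,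
        inv_d H (hlD d hd)]
      simp
  have fix : ∀ y ∈ Q₀ π D, Commute d₁ (q * y * q⁻¹ * y⁻¹) := fun y hy =>
    hM2 d₁ hd₁ _ (prod_shift H l hlD M hM1 hM2 y hy)
  set δ := q * x * q⁻¹ * x⁻¹ with hδ
  have hδ1 : δ = 1 := by
    refine mem_center_of_D H fun d hd => ?_
    obtain ⟨g, hg⟩ : ∃ g, g * d₁ * g⁻¹ = d := class_exists_conj H.cls (hlD d₁ hd₁) hd
    have hy : g⁻¹ * x * g ∈ Q₀ π D := by simpa using (Q₀_normal H).conj_mem x hx g⁻¹
    have h1 := fix _ hy
    have hm : g * q * g⁻¹ * q⁻¹ ∈ Q₀ π D := shift_Q₀ H hq g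
    have hqx : q * x * q⁻¹ ∈ Q₀ π D := (Q₀_normal H).conj_mem x hx q
    have e : g * (q * (g⁻¹ * x * g) * q⁻¹ * (g⁻¹ * x * g)⁻¹) * g⁻¹ = δ := by
      have hc := (Q₀_comm H hm hqx).eq
      calc g * (q * (g⁻¹ * x * g) * q⁻¹ * (g⁻¹ * x * g)⁻¹) * g⁻¹
          = (g * q * g⁻¹ * q⁻¹) * (q * x * q⁻¹) * (g * q * g⁻¹ * q⁻¹)⁻¹ * x⁻¹ := by group
        _ = δ := by rw [hc, mul_inv_cancel_right]
    rw [← hg, ← e]
    show g * d₁ * g⁻¹ * (g * _ * g⁻¹) = g * _ * g⁻¹ * (g * d₁ * g⁻¹)
    calc g * d₁ * g⁻¹ * (g * (q * (g⁻¹ * x * g) * q⁻¹ * (g⁻¹ * x * g)⁻¹) * g⁻¹)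
        = g * (d₁ * (q * (g⁻¹ * x * g) * q⁻¹ * (g⁻¹ * x * g)⁻¹)) * g⁻¹ := by group
      _ = g * ((q * (g⁻¹ * x * g) * q⁻¹ * (g⁻¹ * x * g)⁻¹) * d₁) * g⁻¹ := by rw [h1.eq]
      _ = _ := by group
  rw [hδ, mul_inv_eq_one, mul_inv_eq_iff_eq_mul] at hδ1
  exact hδ1

/-- A group of 2-power order generated by one class is cyclic, so the derived group is perfect. -/
theorem derived_perfect : ⁅commutator G, commutator G⁆ = commutator G := by
  set K := commutator G
  set K2 := ⁅K, K⁆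
  refine le_antisymm (commutator_mono le_top le_top) ?_
  haveI : K2.Normal := inferInstance
  have hmap : K2.map π = ⊤ := by
    have hK : K.map π = ⊤ := by
      rw [show K = ⁅(⊤ : Subgroup G), ⊤⁆ from rfl, map_commutator, map_top_of_surjective _ H.surj]
      exact H.perfect
    rw [map_commutator, hK]
    exact H.perfect
  set φ := QuotientGroup.mk' K2
  have hpg : IsPGroup 2 (G ⧸ K2) := by
    intro z
    obtain ⟨g, rfl⟩ := QuotientGroup.mk'_surjective K2 z
    obtain ⟨k, hk, hkg⟩ : π g ∈ K2.map π := hmap ▸ mem_top _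
    obtain ⟨m, hm⟩ := H.two ⟨k⁻¹ * g, by simp [hkg]⟩
    refine ⟨m, ?_⟩
    have hk1 : φ k = 1 := (QuotientGroup.eq_one_iff k).2 hk
    have : φ g = φ (k⁻¹ * g) := by rw [map_mul, map_inv, hk1, inv_one, one_mul]
    rw [this, ← map_pow, show (k⁻¹ * g) ^ 2 ^ m = 1 from congrArg Subtype.val hm, map_one]
  haveI : Group.IsNilpotent (G ⧸ K2) := hpg.isNilpotent
  obtain ⟨d, hd, -⟩ := H.cls.2.1
  have hcyc : zpowers (φ d) = ⊤ := by
    rcases IsCoatomic.eq_top_or_exists_le_coatom (zpowers (φ d)) with h | ⟨M, hM, hle⟩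
    · exact h
    · exfalso
      haveI : M.Normal := NormalizerCondition.normal_of_coatom M Group.normalizerCondition_of_isNilpotent hM
      refine hM.1 (eq_top_iff.2 ?_)
      rw [← map_top_of_surjective _ (QuotientGroup.mk'_surjective K2), ← H.cls.2.2,
        MonoidHom.map_closure, closure_le]
      rintro _ ⟨e, he, rfl⟩
      obtain ⟨g, rfl⟩ := class_exists_conj H.cls hd he
      simp only [map_mul, map_inv]
      exact ‹M.Normal›.conj_mem _ (hle (mem_zpowers _)) _
  rw [show K = ⁅(⊤ : Subgroup G), ⊤⁆ from rfl, commutator_le]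
  intro a _ b _
  rw [← QuotientGroup.eq_one_iff, ← QuotientGroup.mk'_apply, map_commutatorElement,
    commutatorElement_eq_one_iff_commute]
  obtain ⟨i, hi⟩ := mem_zpowers_iff.1 (hcyc ▸ mem_top (φ a))
  obtain ⟨j, hj⟩ := mem_zpowers_iff.1 (hcyc ▸ mem_top (φ b))
  rw [← hi, ← hj]
  exact (Commute.refl _).zpow_zpow i j

/-- The derived group meets the radical inside the centraliser of `Q₀`. -/
theorem derived_ker {x : G} (hxK : x ∈ commutator G) (hx : π x = 1) :
    ∀ y ∈ Q₀ π D, Commute x y := by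
  haveI := Q₀_normal H
  set K := commutator G
  let C : Subgroup G := π.ker ⊓ centralizer (Q₀ π D : Set G)
  haveI : C.Normal := inferInstance
  let N : Subgroup K := C.subgroupOf K
  haveI : N.Normal := inferInstance
  let σ : K ⧸ N →* S := QuotientGroup.lift N (π.comp K.subtype) (fun k hk => hk.1)
  have hKmap : K.map π = ⊤ := by
    rw [show K = ⁅(⊤ : Subgroup G), ⊤⁆ from rfl, map_commutator, map_top_of_surjective _ H.surj]
    exact H.perfect
  have hσs : Function.Surjective σ := fun s => by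
    obtain ⟨k, hk, rfl⟩ : s ∈ K.map π := hKmap ▸ mem_top s
    exact ⟨QuotientGroup.mk' N ⟨k, hk⟩, rfl⟩
  have hσc : σ.ker ≤ center (K ⧸ N) := by
    intro z hz
    obtain ⟨k, rfl⟩ := QuotientGroup.mk'_surjective N z
    rw [mem_center_iff]
    intro w
    obtain ⟨g, rfl⟩ := QuotientGroup.mk'_surjective N w
    rw [← map_mul, ← map_mul, eq_comm, QuotientGroup.mk'_eq_mk']
    refine ⟨(k * g)⁻¹ * (g * k), ?_, by group⟩
    have hk : π k.1 = 1 := hz
    have h0 : (g.1 * k.1 * g.1⁻¹ * k.1⁻¹) ∈ Q₀ π D := shift_Q₀ H hk g.1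
    have h1 : ((k.1 * g.1)⁻¹ * (g.1 * k.1)) ∈ Q₀ π D := by
      have := (Q₀_normal H).conj_mem _ h0 (k.1 * g.1)⁻¹
      rwa [show (k.1 * g.1)⁻¹ * (g.1 * k.1 * g.1⁻¹ * k.1⁻¹) * (k.1 * g.1)⁻¹⁻¹ =
        (k.1 * g.1)⁻¹ * (g.1 * k.1) by group] at this
    exact ⟨Q₀_le_ker H h1, fun y hy => (Q₀_comm H hy h1).eq⟩
  have hσp : IsPGroup 2 σ.ker := by
    rintro ⟨z, hz⟩
    obtain ⟨k, rfl⟩ := QuotientGroup.mk'_surjective N z
    obtain ⟨m, hm⟩ := H.two ⟨k.1, hz⟩
    refine ⟨m, Subtype.ext ?_⟩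
    have hm' : k ^ 2 ^ m = 1 := by
      ext
      simpa using congrArg Subtype.val hm
    show QuotientGroup.mk' N k ^ 2 ^ m = 1
    rw [← map_pow, hm', map_one]
  have hperf : commutator (K ⧸ N) = ⊤ := by
    have hK : commutator K = ⊤ := by
      refine map_injective K.subtype_injective ?_
      rw [map_subtype_commutator, derived_perfect H, ← MonoidHom.range_eq_map, range_subtype]
    rw [← map_top_of_surjective _ (QuotientGroup.mk'_surjective N), ← hK]
    rw [show commutator (K ⧸ N) = ⁅(⊤ : Subgroup (K ⧸ N)), ⊤⁆ from rfl,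
      show commutator K = ⁅(⊤ : Subgroup K), ⊤⁆ from rfl, map_commutator,
      map_top_of_surjective _ (QuotientGroup.mk'_surjective N)]
  have hker := H.split _ σ hσs hσc hσp hperf
  have h1 : QuotientGroup.mk' N ⟨x, hxK⟩ ∈ σ.ker := hx
  rw [hker, mem_bot, QuotientGroup.mk'_apply, QuotientGroup.eq_one_iff] at h1
  exact fun y hy => (h1.2 y hy).symm

/-- The radical centralises `Q₀`. -/
theorem ker_centralizes {x : G} (hx : π x = 1) : ∀ y ∈ Q₀ π D, Commute x y := by
  obtain ⟨q, hq, hqc, l, hlD, hodd, rfl⟩ := five_centralizes H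
  obtain ⟨d, hd, -⟩ := H.cls.2.1
  let ψ := Abelianization.of (G := G)
  have hD : ∀ e ∈ D, ψ e = ψ d := fun e he => by
    obtain ⟨g, rfl⟩ := class_exists_conj H.cls hd he
    simp [ψ]
  have hd2 : ψ d * ψ d = 1 := by rw [← map_mul, sq_one H hd, map_one]
  have hval : ∀ z : G, ψ z = 1 ∨ ψ z = ψ d := by
    intro z
    have hz : z ∈ closure D := H.cls.2.2 ▸ mem_top z
    induction hz using closure_induction with
    | mem e he => exact Or.inr (hD e he)
    | one => exact Or.inl (map_one _)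
    | mul a b _ _ iha ihb =>
      rw [map_mul]
      rcases iha with h | h <;> rcases ihb with h' | h' <;> rw [h, h'] <;> simp [hd2]
    | inv a _ iha =>
      rw [map_inv]
      rcases iha with h | h <;> rw [h]
      · simp
      · exact Or.inr (inv_eq_of_mul_eq_one_right hd2)
  have hlen : ∀ m : List G, (∀ e ∈ m, e ∈ D) → ψ m.prod = ψ d ^ m.length := by
    intro m
    induction m with
    | nil => simp
    | cons a m ih =>
      intro hm
      rw [List.prod_cons, map_mul, ih (fun e he => hm e (List.mem_cons_of_mem _ he)),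
        hD a (hm a List.mem_cons_self), List.length_cons, pow_succ']
  have hqd : ψ l.prod = ψ d := by
    obtain ⟨k, hk⟩ := hodd
    rw [hlen l hlD, hk, pow_succ, pow_mul, sq, hd2, one_pow, one_mul]
  have inK : ∀ z : G, ψ z = 1 → z ∈ commutator G := fun z hz =>
    (QuotientGroup.eq_one_iff z).1 hz
  intro y hy
  rcases hval x with h | h
  · exact derived_ker H (inK x h) hx y hy
  · have h1 := derived_ker H (inK (l.prod⁻¹ * x) (by rw [map_mul, map_inv, hqd, h, inv_mul_cancel]))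
      (by rw [map_mul, map_inv, hq, hx, inv_one, one_mul]) y hy
    simpa using (hqc y hy).mul_left h1

/-- The radical is elementary abelian. -/
theorem ker_elementary : IsElementaryAbelian 2 π.ker := by
  have hconj : ∀ x : G, π x = 1 → ∀ g : G, ∃ m ∈ Q₀ π D, g * x * g⁻¹ = m * x :=
    fun x hx g => ⟨_, shift_Q₀ H hx g, by group⟩
  have hsq : ∀ x : G, π x = 1 → x * x = 1 := by
    intro x hx
    refine mem_center_of_D H fun g _ => ?_
    obtain ⟨m, hm, e⟩ := hconj x hx g
    have hc := ker_centralizes H hx m hm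
    have : g * (x * x) * g⁻¹ = x * x := by
      rw [show g * (x * x) * g⁻¹ = g * x * g⁻¹ * (g * x * g⁻¹) by group, e, hc.mul_mul_mul_comm,
        Q₀_sq H hm, one_mul]
    exact mul_inv_eq_iff_eq_mul.1 this
  refine ⟨⟨⟨fun a b => Subtype.ext ?_⟩⟩, fun x hx => by rw [pow_two]; exact hsq x hx⟩
  show a.1 * b.1 = b.1 * a.1
  have ha := hsq a.1 a.2
  have hb := hsq b.1 b.2
  have hab := hsq (a.1 * b.1) (mul_mem a.2 b.2)
  have e := inv_eq_of_mul_eq_one_right hab
  rw [_root_.mul_inv_rev, inv_eq_of_mul_eq_one_right ha, inv_eq_of_mul_eq_one_right hb] at e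
  exact e.symm

end Cfsg.Agent.Lib.ThreeTransUnitary95.Core
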