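import Cfsg.Agent.Lib.UnitaryFour.Transvection

/-!
Lib/ThreeTransUnitary95/Frame: orthonormal frames of the five-dimensional hermitian space over four elements
and the elements of order three diagonal in them.
Owner: helper95.
-/

set_option autoImplicit false
set_option linter.unusedSectionVars false

namespace Cfsg.Agent.Lib.ThreeTransUnitary95.Frame

open Cfsg Matrix Cfsg.Agent.Lib.Unitary Cfsg.Agent.Lib.UnitaryFour.Transvection

variable {F : Type} [Field F] [Fintype F]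

local notation "h⟪" u ", " v "⟫" => hermForm 5 F 2 u v
local notation "V" => Fin 5 → F

theorem cube_cases (hF : Fintype.card F = 2 ^ 2) (x : F) :
    (x = 0 ∧ x * x ^ 2 = 0) ∨ (x ≠ 0 ∧ x * x ^ 2 = 1) := by
  by_cases h : x = 0
  · exact Or.inl ⟨h, by simp [h]⟩
  · exact Or.inr ⟨h, norm_eq_one hF h⟩

theorem expand {b : Fin 5 → V} (hb : Orthonormal' 2 b) (v : V) : v = ∑ i, h⟪v, b i⟫ • b i := by
  have hsp : Submodule.span F (Set.range b) = ⊤ :=
    (orthonormal_linearIndependent hb).span_eq_top_of_card_eq_finrank' (by simp)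
  have hv : v ∈ Submodule.span F (Set.range b) := hsp ▸ Submodule.mem_top
  obtain ⟨c, rfl⟩ := (Submodule.mem_span_range_iff_exists_fun F).1 hv
  simp only [orthonormal_coeff hb]

/-- The norm in coordinates. -/
theorem norm_coord (hF : Fintype.card F = 2 ^ 2) {b : Fin 5 → V} (hb : Orthonormal' 2 b) (v : V) :
    h⟪v, v⟫ = ∑ i, h⟪v, b i⟫ * h⟪v, b i⟫ ^ 2 := by
  conv_lhs => rw [expand hb v]
  rw [herm_sum_sum hF]
  simp [hb _ _]

/-- The product in coordinates. -/
theorem herm_coord (hF : Fintype.card F = 2 ^ 2) {b : Fin 5 → V} (hb : Orthonormal' 2 b) (v w : V) :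
    h⟪v, w⟫ = ∑ i, h⟪v, b i⟫ * h⟪w, b i⟫ ^ 2 := by
  conv_lhs => rw [expand hb v, expand hb w]
  rw [herm_sum_sum hF]
  simp [hb _ _]

theorem ext_frame {b : Fin 5 → V} (hb : Orthonormal' 2 b) {g g' : SU 5 F 2}
    (h : ∀ k, act g (b k) = act g' (b k)) : g = g' := by
  refine ext' fun v => ?_
  rw [expand hb v]
  simp only [act_def, Matrix.mulVec_sum, Matrix.mulVec_smul]
  exact Finset.sum_congr rfl fun i _ => by rw [← act_def, ← act_def, h i]

/-- An isotropic vector has a vanishing coordinate. -/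
theorem exists_zero_coord (hF : Fintype.card F = 2 ^ 2) {b : Fin 5 → V} (hb : Orthonormal' 2 b) {p : V}
    (hp : h⟪p, p⟫ = 0) : ∃ i, h⟪p, b i⟫ = 0 := by
  by_contra hc
  push Not at hc
  rw [norm_coord hF hb, Finset.sum_congr rfl (fun i _ => norm_eq_one hF (hc i))] at hp
  simp only [Finset.sum_const, Finset.card_univ, Fintype.card_fin, nsmul_eq_mul, mul_one,
    Nat.cast_ofNat] at hp
  exact one_ne_zero (α := F) (by linear_combination hp - 2 * two_eq_zero hF)

theorem extend_one (hF : Fintype.card F = 2 ^ 2) {a : V} (ha : h⟪a, a⟫ = 1) :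
    ∃ b : Fin 5 → V, Orthonormal' 2 b ∧ b 4 = a := by
  obtain ⟨g, hg, hga⟩ := orthonormal_extend hF (k := 1) (l := 4) (n := 5) rfl (f := ![a])
    (fun i j => by fin_cases i; fin_cases j; simpa using ha)
  have h0 : ∀ i, h⟪g i, a⟫ = 0 := fun i => hga i 0
  refine ⟨![g 0, g 1, g 2, g 3, a], ?_, rfl⟩
  intro i j
  fin_cases i <;> fin_cases j <;> simp [hg _ _, ha, h0, herm_eq_zero_symm hF (h0 _)]

theorem extend_two (hF : Fintype.card F = 2 ^ 2) {a c : V} (ha : h⟪a, a⟫ = 1) (hc : h⟪c, c⟫ = 1)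
    (hac : h⟪a, c⟫ = 0) : ∃ b : Fin 5 → V, Orthonormal' 2 b ∧ b 0 = a ∧ b 1 = c := by
  obtain ⟨g, hg, hga⟩ := orthonormal_extend hF (k := 2) (l := 3) (n := 5) rfl (f := ![a, c])
    (fun i j => by fin_cases i <;> fin_cases j <;> simp [ha, hc, hac, herm_eq_zero_symm hF hac])
  have h0 : ∀ i, h⟪g i, a⟫ = 0 := fun i => hga i 0
  have h1 : ∀ i, h⟪g i, c⟫ = 0 := fun i => hga i 1
  refine ⟨![a, c, g 0, g 1, g 2], ?_, rfl, rfl⟩
  intro i j
  fin_cases i <;> fin_cases j <;>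
    simp [hg _ _, ha, hc, hac, herm_eq_zero_symm hF hac, h0, h1, herm_eq_zero_symm hF (h0 _),
      herm_eq_zero_symm hF (h1 _)]

/-- A frame adapted to an isotropic point in the orthogonal of a unit vector. -/
theorem extend_point (hF : Fintype.card F = 2 ^ 2) {o : F} (ho : o ^ 2 + o + 1 = 0) {a p : V}
    (ha : h⟪a, a⟫ = 1) (hp0 : p ≠ 0) (hp : h⟪p, p⟫ = 0) (hpa : h⟪p, a⟫ = 0) :
    ∃ b : Fin 5 → V, Orthonormal' 2 b ∧ b 4 = a ∧ b 0 + b 1 = p := by
  have h2 := two_eq_zero hF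
  have hap : h⟪a, p⟫ = 0 := herm_eq_zero_symm hF hpa
  have hli : LinearIndependent F ![p, a] := by
    rw [LinearIndependent.pair_iff' hp0]
    intro c hc
    have := congrArg (fun z => h⟪z, a⟫) hc
    simp [herm_smul_left, hpa, ha] at this
  obtain ⟨f, hf, hfo⟩ := exists_partner hF hli 0 (fun i => by fin_cases i <;> simp [hp, hap])
  have hfa : h⟪f, a⟫ = 0 := by simpa using hfo 1 (by decide)
  simp only [Matrix.cons_val_zero] at hf
  have haf : h⟪a, f⟫ = 0 := herm_eq_zero_symm hF hfa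
  have ho4 : o ^ 4 = o := by linear_combination (o ^ 2 - o) * ho
  have e1 : h⟪o • p + f, o • p + f⟫ = 1 := by
    simp [herm_add_left, herm_add_right _ _ _ hF, herm_smul_left, herm_smul_right, hf.1, hf.2.1, hf.2.2,
      hf.symm' hF]
    linear_combination ho - h2
  have e2 : h⟪o ^ 2 • p + f, o ^ 2 • p + f⟫ = 1 := by
    simp [herm_add_left, herm_add_right _ _ _ hF, herm_smul_left, herm_smul_right, hf.1, hf.2.1, hf.2.2,
      hf.symm' hF, ← pow_mul]
    linear_combination ho + ho4 - h2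
  have e12 : h⟪o • p + f, o ^ 2 • p + f⟫ = 0 := by
    simp [herm_add_left, herm_add_right _ _ _ hF, herm_smul_left, herm_smul_right, hf.1, hf.2.1, hf.2.2,
      hf.symm' hF, ← pow_mul]
    linear_combination ho4 + o * h2
  obtain ⟨g, hg, hgo⟩ := orthonormal_extend hF (k := 3) (l := 2) (n := 5) rfl
    (f := ![o • p + f, o ^ 2 • p + f, a])
    (fun i j => by
      fin_cases i <;> fin_cases j <;>
        simp [e1, e2, e12, herm_eq_zero_symm hF e12, ha, herm_add_left, herm_add_right _ _ _ hF,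
          herm_smul_left, herm_smul_right, hpa, hap, hfa, haf])
  have g1 : ∀ i, h⟪g i, o • p + f⟫ = 0 := fun i => hgo i 0
  have g2 : ∀ i, h⟪g i, o ^ 2 • p + f⟫ = 0 := fun i => hgo i 1
  have g3 : ∀ i, h⟪g i, a⟫ = 0 := fun i => hgo i 2
  refine ⟨![o • p + f, o ^ 2 • p + f, g 0, g 1, a], ?_, rfl, ?_⟩
  · have a1 : h⟪o • p + f, a⟫ = 0 := by simp [herm_add_left, herm_smul_left, hpa, hfa]
    have a2 : h⟪o ^ 2 • p + f, a⟫ = 0 := by simp [herm_add_left, herm_smul_left, hpa, hfa]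
    intro i j
    fin_cases i <;> fin_cases j <;>
      simp [hg _ _, e1, e2, e12, herm_eq_zero_symm hF e12, ha, a1, a2, herm_eq_zero_symm hF a1,
        herm_eq_zero_symm hF a2, g1, g2, g3, herm_eq_zero_symm hF (g1 _),
        herm_eq_zero_symm hF (g2 _), herm_eq_zero_symm hF (g3 _)]
  · show o • p + f + (o ^ 2 • p + f) = p
    rw [show o • p + f + (o ^ 2 • p + f) = (o + o ^ 2) • p + (f + f) by rw [add_smul]; abel,
      add_self_zero hF, add_zero, show o + o ^ 2 = 1 by linear_combination ho - h2, one_smul]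

/-- A unit vector orthogonal to two given unit vectors. -/
theorem exists_unit_orth_two (hF : Fintype.card F = 2 ^ 2) {a c : V} (ha : h⟪a, a⟫ = 1) :
    ∃ d : V, h⟪d, d⟫ = 1 ∧ h⟪d, a⟫ = 0 ∧ h⟪d, c⟫ = 0 := by
  obtain ⟨b, hb, hb4⟩ := extend_one hF ha
  by_cases h : ∃ i : Fin 5, i ≠ 4 ∧ h⟪c, b i⟫ = 0
  · obtain ⟨i, hi, hi'⟩ := h
    exact ⟨b i, by rw [hb i i, if_pos rfl], by rw [← hb4, hb i 4, if_neg hi],
      herm_eq_zero_symm hF hi'⟩
  push Not at h
  obtain ⟨o, ho0, ho1, ho⟩ := exists_omega hF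
  have hco : ∀ i, h⟪b i, c⟫ = h⟪c, b i⟫ ^ 2 := fun i => (herm_conj c (b i) hF).symm
  refine ⟨h⟪c, b 0⟫ • b 0 + (o * h⟪c, b 1⟫) • b 1 + (o ^ 2 * h⟪c, b 2⟫) • b 2, ?_, ?_, ?_⟩
  · simp only [herm_add_left, herm_add_right _ _ _ hF, herm_smul_left, herm_smul_right, hb _ _]
    simp
    linear_combination norm_eq_one hF (h 0 (by decide)) +
      norm_eq_one hF (mul_ne_zero ho0 (h 1 (by decide))) +
      norm_eq_one hF (mul_ne_zero (pow_ne_zero 2 ho0) (h 2 (by decide))) + two_eq_zero hF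
  · rw [← hb4]
    simp only [herm_add_left, herm_smul_left, hb _ _]
    simp
  · simp only [herm_add_left, herm_smul_left, hco]
    linear_combination norm_eq_one hF (h 0 (by decide)) + o * norm_eq_one hF (h 1 (by decide)) +
      o ^ 2 * norm_eq_one hF (h 2 (by decide)) + ho

/-- `v ↦ o v + h(v,a) a`: the element with eigenvalue `o²` on `a` and `o` on its orthogonal. -/
def zel (hF : Fintype.card F = 2 ^ 2) {o : F} (ho : o ^ 2 + o + 1 = 0) (a : V) (ha : h⟪a, a⟫ = 1) :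
    SU 5 F 2 :=
  ⟨⟨o • rk1 2 (o ^ 2) a a, by
      rw [Matrix.det_smul, rk1_det, ha, mul_one, Fintype.card_fin]
      linear_combination (o ^ 5 - (o ^ 3 + 1) * (o - 1)) * ho - two_eq_zero hF⟩,
    fun u v => by
      show hermForm 5 F 2 ((o • rk1 2 (o ^ 2) a a) *ᵥ u) ((o • rk1 2 (o ^ 2) a a) *ᵥ v) = _
      simp only [Matrix.smul_mulVec, rk1_mulVec, herm_add_left, herm_add_right _ _ _ hF,
        herm_smul_left, herm_smul_right, ha, mul_one, mul_pow, herm_conj v a hF]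
      linear_combination ((o - 1) * h⟪u, v⟫ + o ^ 5 * (o ^ 2 - o + 1) * (h⟪u, a⟫ * h⟪a, v⟫)) * ho⟩

theorem act_zel (hF : Fintype.card F = 2 ^ 2) {o : F} (ho : o ^ 2 + o + 1 = 0) {a : V} (ha : h⟪a, a⟫ = 1)
    (v : V) : act (zel hF ho a ha) v = o • v + h⟪v, a⟫ • a := by
  show (o • rk1 2 (o ^ 2) a a) *ᵥ v = _
  rw [Matrix.smul_mulVec, rk1_mulVec, smul_add, smul_smul]
  congr 2
  linear_combination ((o - 1) * h⟪v, a⟫) * ho

theorem zel_conj (hF : Fintype.card F = 2 ^ 2) {o : F} (ho : o ^ 2 + o + 1 = 0) (g : SU 5 F 2) {a : V}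
    (ha : h⟪a, a⟫ = 1) (hga : h⟪act g a, act g a⟫ = 1) :
    zel hF ho (act g a) hga = g * zel hF ho a ha * g⁻¹ := by
  refine ext' fun u => ?_
  have hu : act g (act g⁻¹ u) = u := by rw [← act_mul, mul_inv_cancel, act_one]
  rw [act_mul, act_mul, act_zel, act_zel, act_add, act_smul, act_smul, hu]
  congr 2
  conv_lhs => rw [← hu, act_herm]

theorem zel_smul (hF : Fintype.card F = 2 ^ 2) {o : F} (ho : o ^ 2 + o + 1 = 0) {a : V} (ha : h⟪a, a⟫ = 1)
    {l : F} (hl : l ≠ 0) (hla : h⟪l • a, l • a⟫ = 1) : zel hF ho (l • a) hla = zel hF ho a ha := by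
  refine ext' fun u => ?_
  rw [act_zel, act_zel, herm_smul_right, smul_smul]
  congr 2
  linear_combination h⟪u, a⟫ * norm_eq_one hF hl

theorem zel_comm (hF : Fintype.card F = 2 ^ 2) {o : F} (ho : o ^ 2 + o + 1 = 0) {a c : V}
    (ha : h⟪a, a⟫ = 1) (hc : h⟪c, c⟫ = 1) (hac : h⟪a, c⟫ = 0) :
    Commute (zel hF ho a ha) (zel hF ho c hc) := by
  refine ext' fun u => ?_
  simp only [act_mul, act_zel, herm_add_left, herm_smul_left, hac, herm_eq_zero_symm hF hac, mul_zero,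
    add_zero, smul_add, smul_smul]
  abel

theorem zel_tv_comm (hF : Fintype.card F = 2 ^ 2) {o : F} (ho : o ^ 2 + o + 1 = 0) {a p : V}
    (ha : h⟪a, a⟫ = 1) (hp : h⟪p, p⟫ = 0) (hpa : h⟪p, a⟫ = 0) :
    Commute (zel hF ho a ha) (tv hF p hp) := by
  refine ext' fun u => ?_
  simp only [act_mul, act_tv, act_zel, herm_add_left, herm_smul_left, hpa, herm_eq_zero_symm hF hpa, mul_zero,
    add_zero, smul_add, smul_smul]
  rw [mul_comm o]
  abel

theorem iso_pair (hF : Fintype.card F = 2 ^ 2) {b : Fin 5 → V} (hb : Orthonormal' 2 b) {i j : Fin 5}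
    (hij : i ≠ j) {l : F} (hl : l ≠ 0) : h⟪b i + l • b j, b i + l • b j⟫ = 0 := by
  simp [herm_add_left, herm_add_right _ _ _ hF, herm_smul_left, herm_smul_right, hb _ _, hij, hij.symm]
  linear_combination norm_eq_one hF hl + two_eq_zero hF

/-- The element `diag (o, o²)` on the plane of `b i` and `b j`, a product of two transvections. -/
def cel (hF : Fintype.card F = 2 ^ 2) {o : F} (ho0 : o ≠ 0) {b : Fin 5 → V} (hb : Orthonormal' 2 b)
    {i j : Fin 5} (hij : i ≠ j) : SU 5 F 2 :=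
  tv hF (b i + o ^ 2 • b j) (iso_pair hF hb hij (pow_ne_zero 2 ho0)) *
    tv hF (b i + (1 : F) • b j) (iso_pair hF hb hij one_ne_zero)

theorem act_cel (hF : Fintype.card F = 2 ^ 2) {o : F} (ho : o ^ 2 + o + 1 = 0) (ho0 : o ≠ 0)
    {b : Fin 5 → V} (hb : Orthonormal' 2 b) {i j : Fin 5} (hij : i ≠ j) (k : Fin 5) :
    act (cel hF ho0 hb hij) (b k) = (if k = i then o else if k = j then o ^ 2 else 1) • b k := by
  have h2 := two_eq_zero hF
  rw [cel, act_mul, act_tv, act_tv]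
  by_cases hi : k = i
  · subst hi
    rw [if_pos rfl]
    simp [herm_add_left, herm_add_right _ _ _ hF, herm_smul_left, herm_smul_right, hb _ _, hij, hij.symm,
      ← pow_mul]
    ext m
    simp only [Pi.add_apply, Pi.smul_apply, smul_eq_mul]
    linear_combination (2 * b k m + b j m * (1 + o ^ 2)) * h2 +
      (b k m * (o * (o - 1)) + b j m * ((o ^ 3 + 1) * (o - 1))) * ho
  by_cases hj : k = j
  · subst hj
    rw [if_neg hi, if_pos rfl]
    simp [herm_add_left, herm_add_right _ _ _ hF, herm_smul_left, herm_smul_right, hb _ _, hij, hij.symm,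
      ← pow_mul]
    ext m
    simp only [Pi.add_apply, Pi.smul_apply, smul_eq_mul]
    linear_combination (b k m + b k m * o ^ 6 + b i m * (1 + o ^ 4)) * h2
  · rw [if_neg hi, if_neg hj]
    simp [herm_add_left, herm_add_right _ _ _ hF, herm_smul_right, hb _ _, hi, hj]

end Cfsg.Agent.Lib.ThreeTransUnitary95.Frame
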