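import Cfsg.Agent.Lib.ThreeTransUnitary95.Main
import Cfsg.Agent.Lib.ThreeTransUnitary95.Frame

/-!
Lib/ThreeTransUnitary95/FixFree: in a 3-transposition group with trivial centre and quotient `SU₅(2)` by a
normal 2-group, the element `diag (o, o, o, o, o²)` of the quotient fixes no radical element but one.
Owner: helper95.
-/

set_option autoImplicit false
set_option linter.unusedSectionVars false

namespace Cfsg.Agent.Lib.ThreeTransUnitary95.FixFree

open Cfsg Cfsg.Agent.Lib.Unitary Cfsg.Agent.Lib.UnitaryFour.Transvection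
  Cfsg.Agent.Lib.ThreeTransUnitary95 Cfsg.Agent.Lib.ThreeTransUnitary95.Frame

universe u v

section General

variable {G : Type u} {S : Type v} [Group G] [Group S] [Finite G] {π : G →* S} {D : Set G}
  (H : Core.Setup π D)

/-- The action of the quotient on the radical, through a chosen lift. -/
noncomputable def ac (s : S) (v : G) : G :=
  Function.surjInv H.surj s * v * (Function.surjInv H.surj s)⁻¹

include H

theorem ker_comm {v w : G} (hv : π v = 1) (hw : π w = 1) : Commute v w :=
  congrArg Subtype.val ((Core.ker_elementary H).1.is_comm.comm (⟨v, hv⟩ : π.ker) ⟨w, hw⟩)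

theorem ker_sq {v : G} (hv : π v = 1) : v * v = 1 := by
  rw [← pow_two]; exact (Core.ker_elementary H).2 v hv

theorem ker_inv {v : G} (hv : π v = 1) : v⁻¹ = v := inv_eq_of_mul_eq_one_right (ker_sq H hv)

theorem ac_eq {s : S} {g : G} (hg : π g = s) {v : G} (hv : π v = 1) : ac H s v = g * v * g⁻¹ := by
  set k := Function.surjInv H.surj s
  have hk : π k = s := Function.surjInv_eq H.surj s
  have hm : π (g⁻¹ * k) = 1 := by rw [map_mul, map_inv, hg, hk, inv_mul_cancel]
  have hc := (ker_comm H hm hv).eq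
  show k * v * k⁻¹ = _
  calc k * v * k⁻¹ = g * (g⁻¹ * k * v) * k⁻¹ := by group
    _ = g * (v * (g⁻¹ * k)) * k⁻¹ := by rw [hc]
    _ = g * v * g⁻¹ := by group

theorem ac_ker {s : S} {v : G} (hv : π v = 1) : π (ac H s v) = 1 := by
  simp [ac, hv]

theorem ac_mul {s t : S} {v : G} (hv : π v = 1) : ac H (s * t) v = ac H s (ac H t v) := by
  obtain ⟨g, hg⟩ := H.surj s
  obtain ⟨k, hk⟩ := H.surj t
  rw [ac_eq H (g := g * k) (by rw [map_mul, hg, hk]) hv, ac_eq H hk hv,
    ac_eq H hg (by rw [map_mul, map_mul, hv, mul_one, map_inv, mul_inv_cancel])]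
  group

theorem ac_one {v : G} (hv : π v = 1) : ac H 1 v = v := by
  rw [ac_eq H (map_one π) hv]; group

theorem ac_mul_vec (s : S) (v w : G) : ac H s (v * w) = ac H s v * ac H s w := by
  simp only [ac]; group

theorem ac_one_vec (s : S) : ac H s 1 = 1 := by simp [ac]

theorem ac_fix_mul {s t : S} {v : G} (hv : π v = 1) (hs : ac H s v = v) (ht : ac H t v = v) :
    ac H (s * t) v = v := by rw [ac_mul H hv, ht, hs]

theorem commute_of_ac {s : S} {g : G} (hg : π g = s) {v : G} (hv : π v = 1) :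
    ac H s v = v ↔ Commute g v := by
  rw [ac_eq H hg hv, mul_inv_eq_iff_eq_mul]; rfl

/-- The commutator with a transposition is a product of two lifts. -/
theorem delta_mem {a : S} (ha : a ∈ π '' D) {w : G} (hw : π w = 1) :
    ac H a w * w ∈ Core.pairs π D a := by
  obtain ⟨d, hd, rfl⟩ := ha
  rw [ac_eq H rfl hw, Core.inv_d H hd]
  have h := Core.shift_mem H hw hd
  rw [ker_inv H hw] at h
  have hw' : π (d * w * d) = 1 := by
    rw [map_mul, map_mul, hw, mul_one, ← map_mul, Core.sq_one H hd, map_one]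
  rwa [show w * d * w * d = d * w * d * w from by
    rw [show w * d * w * d = w * (d * w * d) by group, (ker_comm H hw hw').eq]] at h

/-- A transposition fixes the commutators of those it commutes with. -/
theorem delta_fix {a b : S} (ha : a ∈ π '' D) (hb : b ∈ π '' D) (hab : Commute b a) {w : G}
    (hw : π w = 1) : ac H b (ac H a w * w) = ac H a w * w := by
  have hm := delta_mem H ha hw
  obtain ⟨e, he, rfl⟩ := hb
  exact (commute_of_ac H rfl (Core.pairs_map H hm)).2 (Core.pairs_commute_d H hm he hab)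

/-- A commutator with `a` fixed by a transposition not commuting with `a` is trivial. -/
theorem delta_eq_one {a b : S} (ha : a ∈ π '' D) (hb : b ∈ π '' D) (hab : ¬ Commute a b) {w : G}
    (hw : π w = 1) (hfix : ac H b (ac H a w * w) = ac H a w * w) : ac H a w * w = 1 := by
  set u := ac H a w * w with hu
  have hu1 : π u = 1 := by rw [hu, map_mul, ac_ker H hw, hw, mul_one]
  have hbr : a * b * a = b * a * b := by
    obtain ⟨d, hd, rfl⟩ := ha
    obtain ⟨e, he, rfl⟩ := hb
    rw [← map_mul, ← map_mul, ← map_mul, ← map_mul,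
      Cfsg.Agent.Lib.ThreeTranspositions.braid H.cls.1 hd he (fun h => hab (h.map π))]
  have hua : ac H a u = u := delta_fix H ha ha (Commute.refl a) hw
  have haw : ac H a w = u * w := by rw [hu, mul_assoc, ker_sq H hw, mul_one]
  set y := ac H (a * b) w with hy
  have hy1 : π y = 1 := ac_ker H hw
  have e1 : ac H (a * b * a) w = u * y := by
    rw [ac_mul H hw, haw, ac_mul_vec, ac_mul H hu1, hfix, hua]
  have e2 : ac H b y = u * y := by rw [← e1, hbr, mul_assoc b a b, ac_mul H hw]
  have hub : u ∈ Core.pairs π D b := by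
    have := delta_mem H hb hy1
    rwa [e2, mul_assoc, ker_sq H hy1, mul_one] at this
  have hua' : u ∈ Core.pairs π D a := delta_mem H ha hw
  refine Core.mem_center_of_D H fun d _ => ?_
  have htop := Core.closure_gen H ha hb hab (M := Subgroup.centralizer {u}) fun h hh hor => by
    rw [Subgroup.mem_centralizer_singleton_iff]
    rcases hor with hl | hr
    · exact (Core.pairs_commute_d H hua' hh hl).eq
    · exact (Core.pairs_commute_d H hub hh hr).eq
  exact Subgroup.mem_centralizer_singleton_iff.1 (htop ▸ Subgroup.mem_top d)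

end General

variable {F : Type} [Field F] [Fintype F] {G : Type u} [Group G] [Finite G] {D : Set G}
  {π : G →* SU 5 F 2}

local notation "h⟪" u ", " v "⟫" => hermForm 5 F 2 u v

variable (hF : Fintype.card F = 2 ^ 2) {o : F} (ho : o ^ 2 + o + 1 = 0) (ho0 : o ≠ 0)
  (H : Core.Setup π D)
  (all : ∀ (v : Fin 5 → F) (hv : hermForm 5 F 2 v v = 0), v ≠ 0 → tv hF v hv ∈ π '' D)
  (mem : ∀ c ∈ π '' D, ∃ (v : Fin 5 → F) (hv : hermForm 5 F 2 v v = 0), v ≠ 0 ∧ c = tv hF v hv)

/-- `g` is diagonal in the frame with exponents `e` of `o`. -/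
def Diag (o : F) (b : Fin 5 → Fin 5 → F) (g : SU 5 F 2) (e : Fin 5 → ℕ) : Prop :=
  ∀ k, act g (b k) = o ^ e k • b k

theorem diag_zel {b : Fin 5 → Fin 5 → F} (hb : Orthonormal' 2 b) {i : Fin 5}
    (hi : hermForm 5 F 2 (b i) (b i) = 1) :
    Diag o b (zel hF ho (b i) hi) fun k => if k = i then 2 else 1 := by
  intro k
  rw [act_zel, hb k i]
  by_cases h : k = i
  · subst h
    simp only [if_true]
    rw [← add_smul]
    congr 1
    linear_combination (-1 : F) * ho + (o + 1) * two_eq_zero hF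
  · simp [h]

include ho in
theorem diag_cel {b : Fin 5 → Fin 5 → F} (hb : Orthonormal' 2 b) {i j : Fin 5} (hij : i ≠ j) :
    Diag o b (cel hF ho0 hb hij) fun k => if k = i then 1 else if k = j then 2 else 0 := by
  intro k
  rw [act_cel hF ho ho0 hb hij]
  by_cases h : k = i
  · simp [h]
  · by_cases h' : k = j <;> simp [h, h', hij.symm]

theorem diag_one {b : Fin 5 → Fin 5 → F} : Diag o b (1 : SU 5 F 2) fun _ => 0 := fun k => by
  rw [act_one, pow_zero, one_smul]

theorem Diag.mul {b : Fin 5 → Fin 5 → F} {g g' : SU 5 F 2} {e e' : Fin 5 → ℕ} (hg : Diag o b g e)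
    (hg' : Diag o b g' e') : Diag o b (g * g') fun k => e k + e' k := fun k => by
  rw [act_mul, hg' k, act_smul, hg k, smul_smul, ← pow_add, Nat.add_comm]

include ho in
/-- Elements diagonal in a frame with congruent exponents are equal. -/
theorem diag_ext {b : Fin 5 → Fin 5 → F} (hb : Orthonormal' 2 b) {g g' : SU 5 F 2} {e e' : Fin 5 → ℕ}
    (hg : Diag o b g e) (hg' : Diag o b g' e') (h : ∀ k, e k % 3 = e' k % 3) : g = g' :=
  ext_frame hb fun k => by
    have ho3 : o ^ 3 = 1 := by linear_combination (o - 1) * ho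
    rw [hg, hg', pow_eq_pow_mod (e k) ho3, pow_eq_pow_mod (e' k) ho3, h]

theorem pair_ne {b : Fin 5 → Fin 5 → F} (hb : Orthonormal' 2 b) {i j : Fin 5} (hij : i ≠ j) (l : F) :
    b i + l • b j ≠ 0 := by
  intro h
  have := congrArg (fun z => h⟪z, b i⟫) h
  simp [herm_add_left, herm_smul_left, hb _ _, hij.symm, herm_zero_left] at this

include ho0 all

/-- Disjoint planes: the element of one fixes the commutators of the other. -/
theorem cel_fix_delta {b : Fin 5 → Fin 5 → F} (hb : Orthonormal' 2 b) {i j k l : Fin 5} (hij : i ≠ j)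
    (hkl : k ≠ l) (h1 : i ≠ k) (h2 : i ≠ l) (h3 : j ≠ k) (h4 : j ≠ l) {w : G} (hw : π w = 1) :
    ac H (cel hF ho0 hb hij) (ac H (cel hF ho0 hb hkl) w * w) = ac H (cel hF ho0 hb hkl) w * w := by
  have horth : ∀ c c' : F, h⟪b i + c • b j, b k + c' • b l⟫ = 0 := fun c c' => by
    simp [herm_add_left, herm_add_right _ _ _ hF, herm_smul_left, herm_smul_right, hb _ _, h1, h2, h3, h4]
  set t := tv hF (b k + o ^ 2 • b l) (iso_pair hF hb hkl (pow_ne_zero 2 ho0))
  set t' := tv hF (b k + (1 : F) • b l) (iso_pair hF hb hkl one_ne_zero)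
  have htt : ac H (cel hF ho0 hb hkl) w * w = ac H t (ac H t' w) * ac H t' w * (ac H t' w * w) := by
    rw [cel, ac_mul H hw, mul_assoc, ← mul_assoc (ac H t' w) (ac H t' w), ker_sq H (ac_ker H hw), one_mul]
  have ht : t ∈ π '' D := all _ (iso_pair hF hb hkl (pow_ne_zero 2 ho0)) (pair_ne hb hkl _)
  have ht' : t' ∈ π '' D := all _ (iso_pair hF hb hkl one_ne_zero) (pair_ne hb hkl _)
  have key : ∀ (c : F) (hc : h⟪b i + c • b j, b i + c • b j⟫ = 0),
      ac H (tv hF _ hc) (ac H (cel hF ho0 hb hkl) w * w) = ac H (cel hF ho0 hb hkl) w * w := by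
    intro c hc
    have hd : tv hF _ hc ∈ π '' D := all _ hc (pair_ne hb hij _)
    rw [htt, ac_mul_vec,
      delta_fix H ht hd (tv_comm hF hc (iso_pair hF hb hkl (pow_ne_zero 2 ho0)) (horth _ _)) (ac_ker H hw),
      delta_fix H ht' hd (tv_comm hF hc (iso_pair hF hb hkl one_ne_zero) (horth _ _)) hw]
  have h1' : π (ac H (cel hF ho0 hb hkl) w * w) = 1 := by rw [map_mul, ac_ker H hw, hw, mul_one]
  conv_lhs => rw [cel]
  exact ac_fix_mul H h1' (key _ _) (key _ _)

include ho ho0

/-- Claim A: the element of `a` fixes no commutator with a transvection centred orthogonal to `a`. -/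
theorem zel_delta {a p : Fin 5 → F} (ha : h⟪a, a⟫ = 1) (hp : h⟪p, p⟫ = 0) (hp0 : p ≠ 0)
    (hpa : h⟪p, a⟫ = 0) {w : G} (hw : π w = 1)
    (hz : ac H (zel hF ho a ha) (ac H (tv hF p hp) w * w) = ac H (tv hF p hp) w * w) :
    ac H (tv hF p hp) w * w = 1 := by
  obtain ⟨b, hb, rfl, rfl⟩ := extend_point hF ho ha hp0 hp hpa
  set u := ac H (tv hF _ hp) w * w with hu
  have hu1 : π u = 1 := by rw [hu, map_mul, ac_ker H hw, hw, mul_one]
  have hT := all _ hp hp0
  have hperp : ∀ (q : Fin 5 → F) (hq : h⟪q, q⟫ = 0), q ≠ 0 → h⟪q, b 0 + b 1⟫ = 0 →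
      ac H (tv hF q hq) u = u :=
    fun q hq hq0 hqp => delta_fix H hT (all q hq hq0) (tv_comm hF hq hp hqp) hw
  have hfix : ∀ {i j : Fin 5} (hij : i ≠ j), i ≠ 0 → i ≠ 1 → j ≠ 0 → j ≠ 1 →
      ac H (cel hF ho0 hb hij) u = u := by
    intro i j hij i0 i1 j0 j1
    have : ∀ c : F, h⟪b i + c • b j, b 0 + b 1⟫ = 0 := fun c => by
      simp [herm_add_left, herm_add_right _ _ _ hF, herm_smul_left, hb _ _, i0, i1, j0, j1]
    exact ac_fix_mul H hu1 (hperp _ _ (pair_ne hb hij _) (this _)) (hperp _ _ (pair_ne hb hij _) (this _))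
  let A := cel hF ho0 hb (show (0 : Fin 5) ≠ 2 by decide)
  let B := cel hF ho0 hb (show (1 : Fin 5) ≠ 2 by decide)
  let C := cel hF ho0 hb (show (3 : Fin 5) ≠ 4 by decide)
  let E := cel hF ho0 hb (show (2 : Fin 5) ≠ 3 by decide)
  let X := cel hF ho0 hb (show (1 : Fin 5) ≠ 3 by decide)
  let Y := cel hF ho0 hb (show (0 : Fin 5) ≠ 1 by decide)
  have hC : ac H C u = u := hfix _ (by decide) (by decide) (by decide) (by decide)
  have hE : ac H E u = u := hfix _ (by decide) (by decide) (by decide) (by decide)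
  have ho3 : o ^ 3 = 1 := by linear_combination (o - 1) * ho
  have dA := diag_cel hF ho ho0 hb (show (0 : Fin 5) ≠ 2 by decide)
  have dB := diag_cel hF ho ho0 hb (show (1 : Fin 5) ≠ 2 by decide)
  have dC := diag_cel hF ho ho0 hb (show (3 : Fin 5) ≠ 4 by decide)
  have dE := diag_cel hF ho ho0 hb (show (2 : Fin 5) ≠ 3 by decide)
  have iz : zel hF ho (b 4) ha = A * B * C :=
    diag_ext ho hb (diag_zel hF ho hb ha) ((dA.mul dB).mul dC) (by decide)
  have iA : A * (A * A) = 1 := diag_ext ho hb (dA.mul (dA.mul dA)) diag_one (by decide)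
  have iX : X = B * E :=
    diag_ext ho hb (diag_cel hF ho ho0 hb (show (1 : Fin 5) ≠ 3 by decide)) (dB.mul dE) (by decide)
  have iY : Y = A * (B * B) :=
    diag_ext ho hb (diag_cel hF ho ho0 hb (show (0 : Fin 5) ≠ 1 by decide)) (dA.mul (dB.mul dB)) (by decide)
  -- `B` acts on `u` as the square of `A`
  have hB : ac H B u = ac H A (ac H A u) := by
    have h := congrArg (ac H A) (congrArg (ac H A) hz)
    rw [iz, ac_mul H hu1, hC, ac_mul H hu1, ← ac_mul H (ac_ker H hu1), ← ac_mul H (ac_ker H hu1),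
      iA, ac_one H (ac_ker H hu1)] at h
    exact h
  have hX : ac H X u = ac H A (ac H A u) := by rw [iX, ac_mul H hu1, hE, hB]
  have hd := cel_fix_delta hF ho0 H all hb (show (0 : Fin 5) ≠ 2 by decide) (show (1 : Fin 5) ≠ 3 by decide)
    (by decide) (by decide) (by decide) (by decide) hu1
  change ac H A (ac H X u * u) = ac H X u * u at hd
  rw [hX, ac_mul_vec, ← ac_mul H hu1, ← ac_mul H hu1, iA, ac_one H hu1] at hd
  have hAA : ac H A (ac H A u) = ac H A u := by
    have h := congrArg (· * u) hd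
    simp only [mul_assoc, ker_sq H hu1, mul_one] at h
    rw [(ker_comm H (ac_ker H hu1) hu1).eq, ← mul_assoc, ker_sq H hu1, one_mul] at h
    exact (ac_mul H hu1).symm.trans h.symm
  have hA : ac H A u = u := by
    have := congrArg (ac H A) hAA
    rw [← ac_mul H hu1, ← ac_mul H hu1, iA, ac_one H hu1, ac_mul H hu1, hAA] at this
    exact this.symm
  have hBu : ac H B u = u := by rw [hB, hA, hA]
  have hY : ac H Y u = u := by rw [iY, ac_mul H hu1, ac_mul H hu1, hBu, hBu, hA]
  set t := tv hF (b 0 + o ^ 2 • b 1) (iso_pair hF hb (by decide) (pow_ne_zero 2 ho0))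
  have ht' : ac H (tv hF (b 0 + (1 : F) • b 1) (iso_pair hF hb (by decide) one_ne_zero)) u = u :=
    hperp _ _ (pair_ne hb (by decide) _) (by
      simp [herm_add_left, herm_add_right _ _ _ hF, hb _ _]
      exact add_self_zero hF (1 : F))
  have ht : ac H t u = u := by
    have : ac H Y u = ac H t u := by
      show ac H (cel hF ho0 hb _) u = _
      rw [cel, ac_mul H hu1, ht']
    rw [← this, hY]
  refine delta_eq_one H hT (all _ _ (pair_ne hb (by decide) _)) (fun hc => ?_) hw ht
  have := Model.commute_imp_orth hF hp _ hc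
  simp [herm_add_left, herm_add_right _ _ _ hF, herm_smul_right, hb _ _, ← pow_mul] at this
  have h1 : 1 + o = 0 := by linear_combination this - o * ho3
  exact pow_ne_zero 2 ho0 (by linear_combination ho - h1)

include mem

/-- The element of a unit vector fixes only the identity of the radical. -/
theorem zel_fix_free {a : Fin 5 → F} (ha : h⟪a, a⟫ = 1) {v : G} (hv : π v = 1)
    (hz : ac H (zel hF ho a ha) v = v) : v = 1 := by
  have step : ∀ {c : Fin 5 → F} (hc : h⟪c, c⟫ = 1), ac H (zel hF ho c hc) v = v →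
      ∀ (p : Fin 5 → F) (hp : h⟪p, p⟫ = 0), p ≠ 0 → h⟪p, c⟫ = 0 → ac H (tv hF p hp) v = v := by
    intro c hc hzc p hp hp0 hpc
    have h : ac H (tv hF p hp) v * v = 1 := by
      refine zel_delta hF ho ho0 H all hc hp hp0 hpc hv ?_
      rw [ac_mul_vec, ← ac_mul H hv, (zel_tv_comm hF ho hc hp hpc).eq, ac_mul H hv, hzc]
    rw [mul_eq_one_iff_eq_inv, ker_inv H hv] at h
    exact h
  obtain ⟨b, hb, rfl⟩ := extend_one hF ha
  have hfix : ∀ {i j : Fin 5} (hij : i ≠ j), i ≠ 4 → j ≠ 4 → ac H (cel hF ho0 hb hij) v = v := by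
    intro i j hij i4 j4
    have : ∀ c : F, h⟪b i + c • b j, b 4⟫ = 0 := fun c => by
      simp [herm_add_left, herm_smul_left, hb _ _, i4, j4]
    exact ac_fix_mul H hv (step ha hz _ _ (pair_ne hb hij _) (this _))
      (step ha hz _ _ (pair_ne hb hij _) (this _))
  let c0 := cel hF ho0 hb (show (0 : Fin 5) ≠ 4 by decide)
  have ho3 : o ^ 3 = 1 := by linear_combination (o - 1) * ho
  have ho4 : o ^ 4 = o := by rw [pow_succ, ho3, one_mul]
  have d0 := diag_cel hF ho ho0 hb (show (0 : Fin 5) ≠ 4 by decide)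
  have iz : zel hF ho (b 4) ha = c0 * (c0 * (c0 * c0)) *
      (cel hF ho0 hb (show (1 : Fin 5) ≠ 0 by decide) * (cel hF ho0 hb (show (2 : Fin 5) ≠ 0 by decide) *
        cel hF ho0 hb (show (3 : Fin 5) ≠ 0 by decide))) :=
    diag_ext ho hb (diag_zel hF ho hb ha)
      ((d0.mul (d0.mul (d0.mul d0))).mul ((diag_cel hF ho ho0 hb (show (1 : Fin 5) ≠ 0 by decide)).mul
        ((diag_cel hF ho ho0 hb (show (2 : Fin 5) ≠ 0 by decide)).mul
          (diag_cel hF ho ho0 hb (show (3 : Fin 5) ≠ 0 by decide))))) (by decide)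
  have i3 : c0 * (c0 * c0) = 1 := diag_ext ho hb (d0.mul (d0.mul d0)) diag_one (by decide)
  have hc0 : ac H c0 v = v := by
    have h := hz
    rw [iz, i3, mul_one, ac_mul H hv, ac_mul H hv, ac_mul H hv, hfix _ (by decide) (by decide),
      hfix _ (by decide) (by decide), hfix _ (by decide) (by decide)] at h
    exact h
  have hi4 : ∀ (i : Fin 5) (hi : i ≠ 4), ac H (cel hF ho0 hb hi) v = v := by
    intro i hi
    by_cases h0 : i = 0
    · subst h0; exact hc0
    have : cel hF ho0 hb hi = cel hF ho0 hb h0 * c0 :=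
      diag_ext ho hb (diag_cel hF ho ho0 hb hi) ((diag_cel hF ho ho0 hb h0).mul d0)
        (by revert hi h0; revert i; decide)
    rw [this, ac_mul H hv, hc0, hfix h0 hi (by decide)]
  have hzi : ∀ (i : Fin 5), ac H (zel hF ho (b i) (by simp [hb i i])) v = v := by
    intro i
    by_cases hi : i = 4
    · subst hi; exact hz
    have : zel hF ho (b i) (by simp [hb i i]) = cel hF ho0 hb hi * zel hF ho (b 4) ha :=
      diag_ext ho hb (diag_zel hF ho hb _) ((diag_cel hF ho ho0 hb hi).mul (diag_zel hF ho hb ha))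
        (by revert hi; revert i; decide)
    rw [this, ac_mul H hv, hz, hi4 i hi]
  refine Core.mem_center_of_D H fun d hd => ?_
  obtain ⟨p, hp, hp0, he⟩ := mem (π d) ⟨d, hd, rfl⟩
  obtain ⟨i, hi⟩ := exists_zero_coord hF hb hp
  refine (commute_of_ac H rfl hv).1 ?_
  rw [he]
  exact step _ (hzi i) p hp hp0 hi

end Cfsg.Agent.Lib.ThreeTransUnitary95.FixFree
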