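import Mathlib
import Cfsg.Agent.Lib.UnitaryFour.Transvection
import Cfsg.Agent.S1631

/-!
Lib/ThreeTransUnitary95/Model: facts on `SU n F 2`, `|F| = 4`, `n ≥ 4`: classes of 3-transpositions consist
of transvections, generation of the transvections by those commuting with one of two, five on a line.
Owner: helper95.
-/

set_option autoImplicit false
set_option linter.unusedSectionVars false
set_option linter.style.haveILetI false

namespace Cfsg.Agent.Lib.ThreeTransUnitary95.Model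

open Cfsg Matrix Module Cfsg.Agent.Lib.Unitary Cfsg.Agent.Lib.UnitaryFour.Transvection

variable {F : Type} [Field F] [Fintype F] {n : ℕ}

local notation "h⟪" u ", " v "⟫" => hermForm n F 2 u v

theorem commute_imp_orth (hF : Fintype.card F = 2 ^ 2) {v w : Fin n → F} (hv : h⟪v, v⟫ = 0)
    (hw : h⟪w, w⟫ = 0) (hc : Commute (tv hF v hv) (tv hF w hw)) : h⟪v, w⟫ = 0 := by
  by_contra hne
  have hv0 : v ≠ 0 := fun h => hne (by rw [h, herm_zero_left])
  have := congrArg (fun g => act g v) hc.eq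
  simp only [act_mul, act_tv, act_add, act_smul, hv, zero_smul, add_zero, herm_add_left, herm_smul_left] at this
  have h3 : (h⟪v, w⟫ * h⟪w, v⟫) • v = 0 := by
    rw [← sub_eq_zero] at this
    rw [← this]
    simp only [smul_add, smul_smul, zero_add]
    abel
  rcases smul_eq_zero.mp h3 with h4 | h4
  · rcases mul_eq_zero.mp h4 with h5 | h5
    · exact hne h5
    · exact hne (herm_eq_zero_symm hF h5)
  · exact hv0 h4

theorem parallel_of_tv_eq (hF : Fintype.card F = 2 ^ 2) {v w : Fin n → F} (hv : h⟪v, v⟫ = 0)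
    (hw : h⟪w, w⟫ = 0) (hw0 : w ≠ 0) (h : tv hF v hv = tv hF w hw) : ∃ a : F, a ≠ 0 ∧ w = a • v := by
  obtain ⟨f, hf⟩ := exists_hyp hF hw0 hw
  have := congrArg (fun g => act g f) h.symm
  simp only [act_tv, hf.symm' hF, one_smul] at this
  have h2 := add_left_cancel this
  exact ⟨h⟪f, v⟫, fun h0 => hw0 (by rw [h2, h0, zero_smul]), h2⟩

/-- The product of a pair of order three and a commuting pair is of order six. -/
theorem order_six (hF : Fintype.card F = 2 ^ 2)
    {a a' b b' : Fin n → F} (ha : h⟪a, a⟫ = 0) (ha' : h⟪a', a'⟫ = 0) (hb : h⟪b, b⟫ = 0) (hb' : h⟪b', b'⟫ = 0)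
    (h1 : h⟪a, a'⟫ ≠ 0) (o1 : h⟪a, b⟫ = 0) (o2 : h⟪a, b'⟫ = 0) (o3 : h⟪a', b⟫ = 0) (o4 : h⟪a', b'⟫ = 0)
    (o5 : h⟪b, b'⟫ = 0) (hb0 : b ≠ 0) (hb0' : b' ≠ 0) (hnp : ∀ k : F, b' ≠ k • b) :
    (tv hF a ha * tv hF a' ha' * (tv hF b hb * tv hF b' hb')) ^ 2 ≠ 1 ∧
      (tv hF a ha * tv hF a' ha' * (tv hF b hb * tv hF b' hb')) ^ 3 ≠ 1 := by
  have cX : Commute (tv hF a ha * tv hF a' ha') (tv hF b hb * tv hF b' hb') :=
    Commute.mul_left ((tv_comm hF ha hb o1).mul_right (tv_comm hF ha hb' o2))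
      ((tv_comm hF ha' hb o3).mul_right (tv_comm hF ha' hb' o4))
  have hY : (tv hF b hb * tv hF b' hb') ^ 2 = 1 := by
    rw [sq, (tv_comm hF hb hb' o5).symm.mul_mul_mul_comm, tv_mul_self hF, tv_mul_self hF, one_mul]
  have hX : (tv hF a ha * tv hF a' ha') ^ 2 ≠ 1 := fun h => h1 (commute_imp_orth hF ha ha' (by
    have h2 := inv_eq_of_mul_eq_one_right (by rwa [sq] at h)
    rw [_root_.mul_inv_rev, inv_eq_of_mul_eq_one_right (tv_mul_self hF ha),
      inv_eq_of_mul_eq_one_right (tv_mul_self hF ha')] at h2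
    exact h2.symm))
  have hX3 := (Cfsg.Agent.S1631.three hF ha ha').resolve_left hX
  constructor
  · rw [cX.mul_pow, hY, mul_one]; exact hX
  · rw [cX.mul_pow, hX3, one_mul, show (3 : ℕ) = 2 + 1 from rfl, pow_succ, hY, one_mul]
    intro h
    rw [mul_eq_one_iff_eq_inv, inv_eq_of_mul_eq_one_right (tv_mul_self hF hb')] at h
    obtain ⟨k, -, hk⟩ := parallel_of_tv_eq hF hb hb' hb0' h
    exact hnp k hk

/-- A conjugate of `tv x * tv w` centred on another line through `w`. -/
theorem exists_conj_pair (hF : Fintype.card F = 2 ^ 2) {w x f tt : Fin n → F}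
    (hli : LinearIndependent F ![w, x]) (hww : h⟪w, w⟫ = 0) (hxx : h⟪x, x⟫ = 0) (hwx : h⟪w, x⟫ = 0)
    (hwf : Hyp 2 w f) (hxt : Hyp 2 x tt) (hfx : h⟪f, x⟫ = 0) (htw : h⟪tt, w⟫ = 0)
    (htf : h⟪tt, f⟫ = 0) {o : F}
    (ho : o ^ 2 + o + 1 = 0) :
    ∃ g : SU n F 2, ∀ u, act (g * (tv hF x hxx * tv hF w hww) * g⁻¹) u =
      u + h⟪u, x + tt⟫ • w + h⟪u, w⟫ • (x + tt) := by
  have h2 := two_eq_zero hF
  have h22 : h⟪x + tt, x + tt⟫ = 0 := by
    simp only [herm_add_left, herm_add_right _ _ _ hF, hxx, hxt.2.1, hxt.2.2, hxt.symm' hF, zero_add, add_zero]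
    linear_combination h2
  have hw2 : h⟪w, x + tt⟫ = 0 := by rw [herm_add_right _ _ _ hF, hwx, herm_eq_zero_symm hF htw, add_zero]
  have hp : ∀ a : F, h⟪w + a • (x + tt), w + a • (x + tt)⟫ = 0 := herm_line hF hww h22 hw2
  have hpr : ∀ a b : F, h⟪w + a • (x + tt), w + b • (x + tt)⟫ = 0 := by
    intro a b
    simp [herm_add_left, herm_add_right _ _ _ hF, herm_smul_left, herm_smul_right, hww, hwx,
      herm_eq_zero_symm hF hwx, htw, herm_eq_zero_symm hF htw, hxx, hxt.2.1, hxt.2.2, hxt.symm' hF]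
    linear_combination (a * b ^ 2) * h2
  have hli' : LinearIndependent F ![w + o • (x + tt), w + o ^ 2 • (x + tt)] := by
    rw [LinearIndependent.pair_iff]
    intro c d hcd
    have e1 := congrArg (fun z => h⟪z, f⟫) hcd
    have e2 := congrArg (fun z => h⟪z, x⟫) hcd
    have hxf : h⟪x, f⟫ = 0 := herm_eq_zero_symm hF hfx
    simp only [herm_add_left, herm_smul_left, herm_zero_left, hwf.2.2, hxf, htf, hwx, hxx, hxt.symm' hF,
      zero_add, add_zero, mul_one, mul_zero] at e1 e2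
    have ho1 : (o + o ^ 2 : F) = 1 := by linear_combination ho - h2
    have hd : d = 0 := by linear_combination e2 - o * e1 + (d * o) * h2 - d * ho1
    exact ⟨by linear_combination e1 - hd, hd⟩
  obtain ⟨M, a, ha, hdet, hMw, hMx⟩ := exists_SU_isotropic_pair hF hli hww hxx hwx hli' (hp o) (hp _) (hpr _ _)
  let g : SU n F 2 := ⟨⟨M.1.1, hdet⟩, M.2⟩
  refine ⟨g, fun u => ?_⟩
  have e1 : g * tv hF w hww * g⁻¹ = tv hF _ (hp o) := by
    rw [← tv_conj hF g hww (by rw [act_herm]; exact hww),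
      tv_eq_of_eq hF (show act g w = a • _ from hMw) _ (by rw [herm_smul_left, herm_smul_right, hp o, mul_zero, mul_zero]),
      tv_smul hF (hp o) ha]
  have e2 : g * tv hF x hxx * g⁻¹ = tv hF _ (hp (o ^ 2)) := by
    rw [← tv_conj hF g hxx (by rw [act_herm]; exact hxx),
      tv_eq_of_eq hF (show act g x = _ from hMx) _ (hp (o ^ 2))]
  rw [show g * (tv hF x hxx * tv hF w hww) * g⁻¹ = g * tv hF x hxx * g⁻¹ * (g * tv hF w hww * g⁻¹) by group,
    e1, e2, act_mul, act_tv, act_tv, herm_add_left, herm_smul_left, hpr, mul_zero, add_zero,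
    herm_add_right u w _ hF, herm_add_right u w _ hF, herm_smul_right, herm_smul_right]
  generalize h⟪u, w⟫ = A
  generalize h⟪u, x + tt⟫ = B
  ext i
  simp only [Pi.add_apply, Pi.smul_apply, smul_eq_mul]
  generalize w i = p
  generalize x i + tt i = r
  have ho3 : o ^ 3 = 1 := by linear_combination (o - 1) * ho
  have ho4 : o ^ 4 = o := by linear_combination o * ho3
  have ho5 : o ^ 6 = 1 := by linear_combination (o ^ 3 + 1) * ho3
  linear_combination (A * r + B * p) * ho + (A * p + B * r - A * r - B * p) * h2 + (B * r) * ho3 +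
    (B * r) * ho5 + (B * p) * ho4

/-- The product of the two conjugates is not of order at most three. -/
theorem order_four (hF : Fintype.card F = 2 ^ 2) {w x f tt : Fin n → F} (hww : h⟪w, w⟫ = 0)
    (hxx : h⟪x, x⟫ = 0) (hwx : h⟪w, x⟫ = 0) (hwf : Hyp 2 w f) (hxt : Hyp 2 x tt) (hfx : h⟪f, x⟫ = 0)
    (htw : h⟪tt, w⟫ = 0) (htf : h⟪tt, f⟫ = 0) {o : F} (ho : o ^ 2 + o + 1 = 0) (hx0 : x ≠ 0)
    {t g : SU n F 2} (ht : t = tv hF x hxx * tv hF w hww)
    (hg : ∀ u, act (g * (tv hF x hxx * tv hF w hww) * g⁻¹) u =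
      u + h⟪u, x + tt⟫ • w + h⟪u, w⟫ • (x + tt)) :
    (t * (g * t * g⁻¹)) ^ 2 ≠ 1 ∧ (t * (g * t * g⁻¹)) ^ 3 ≠ 1 := by
  rw [← ht] at hg
  set b := g * t * g⁻¹
  have hta : ∀ u, act t u = u + h⟪u, w⟫ • w + h⟪u, x⟫ • x := by
    intro u
    rw [ht, act_mul, act_tv, act_tv, herm_add_left, herm_smul_left, hwx, mul_zero, add_zero]
  have htt : t * t = 1 := by
    rw [ht, (tv_comm hF hww hxx hwx).mul_mul_mul_comm, tv_mul_self hF, tv_mul_self hF, one_mul]
  have hbb : b * b = 1 := by
    show g * t * g⁻¹ * (g * t * g⁻¹) = 1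
    rw [show g * t * g⁻¹ * (g * t * g⁻¹) = g * (t * t) * g⁻¹ by group, htt, mul_one, mul_inv_cancel]
  have hfw : h⟪f, w⟫ = 1 := hwf.symm' hF
  have hxw : h⟪x, w⟫ = 0 := herm_eq_zero_symm hF hwx
  have hftt : h⟪f, tt⟫ = 0 := herm_eq_zero_symm hF htf
  have hwtt : h⟪w, tt⟫ = 0 := herm_eq_zero_symm hF htw
  have htx : h⟪tt, x⟫ = 1 := hxt.symm' hF
  have hv : ∀ v : Fin n → F, v + v = 0 := add_self_zero hF
  have s1 : act t f = f + w := by rw [hta, hfw, hfx, one_smul, zero_smul, add_zero]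
  have s2 : act b f = f + (x + tt) := by
    rw [hg, herm_add_right _ _ _ hF, hfx, hftt, hfw, add_zero, zero_smul, one_smul, add_zero]
  have s3 : act b (act t f) = f + w + (x + tt) := by
    rw [s1, hg]
    simp [herm_add_left, herm_add_right _ _ _ hF, hfx, hftt, hfw, hwx, hwtt, hww]
  have s4 : act t (act b f) = f + tt + w := by
    rw [s2, hta]
    simp [herm_add_left, hfw, hxw, htw, hfx, hxx, htx]
    rw [show f + (x + tt) + w + x = f + tt + w + (x + x) by abel, hv, add_zero]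
  clear_value b
  constructor
  · intro h
    have hc : Commute t b := by
      have h2 := inv_eq_of_mul_eq_one_right (by rwa [sq] at h)
      rw [_root_.mul_inv_rev, inv_eq_of_mul_eq_one_right htt, inv_eq_of_mul_eq_one_right hbb] at h2
      exact h2.symm
    have := congrArg (fun z => act z f) hc.eq
    simp only [act_mul, s3, s4] at this
    exact hx0 (add_left_cancel (show f + tt + w + x = f + tt + w + 0 by
      rw [add_zero]; refine Eq.trans ?_ this.symm; abel))
  · intro h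
    have hbr : t * b * t = b * t * b := by
      have h' : t * b * t * (b * t * b) = 1 := by rw [← h, pow_three]; group
      have e := eq_inv_of_mul_eq_one_left h'
      rw [e, _root_.mul_inv_rev, _root_.mul_inv_rev, inv_eq_of_mul_eq_one_right htt,
        inv_eq_of_mul_eq_one_right hbb, ← mul_assoc]
    have := congrArg (fun z => act z f) hbr
    simp only [act_mul, s3, s4] at this
    have e1 : act t (f + w + (x + tt)) = f + tt := by
      rw [hta]
      simp [herm_add_left, hfw, hww, hxw, htw, hfx, hwx, hxx, htx]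
      rw [show f + w + (x + tt) + w + x = f + tt + (w + w) + (x + x) by abel, hv, hv, add_zero, add_zero]
    have e2 : act b (f + tt + w) = f + x := by
      rw [hg]
      simp [herm_add_left, herm_add_right _ _ _ hF, hfx, hftt, hfw, hwx, hwtt, hww, htx, hxt.2.1, htw]
      rw [show f + tt + w + w + (x + tt) = f + x + (tt + tt) + (w + w) by abel, hv, hv, add_zero, add_zero]
    rw [e1, e2] at this
    have htx' := add_left_cancel this
    have h1 := hxt.2.2
    rw [htx', hxx] at h1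
    exact zero_ne_one h1

/-- A member of a class of 3-transpositions of `SU n F 2` is a transvection. -/
theorem member_tv (hF : Fintype.card F = 2 ^ 2) {E : Set (SU n F 2)}
    (h2 : ∀ x ∈ E, x ≠ 1 ∧ x * x = 1) (h3 : ∀ x ∈ E, ∀ y ∈ E, (x * y) ^ 2 = 1 ∨ (x * y) ^ 3 = 1)
    (hinv : ∀ g : SU n F 2, ∀ x ∈ E, g * x * g⁻¹ ∈ E) :
    ∀ x ∈ E, ∃ (v : Fin n → F) (hv : h⟪v, v⟫ = 0), v ≠ 0 ∧ x = tv hF v hv := by
  intro t hx
  have ht := (h2 t hx).2
  have ht1 : ¬ ∀ y, nil t y = 0 := fun h => (h2 _ hx).1 (eq_one_of_nil hF h)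
  obtain ⟨v, hv⟩ : ∃ v, h⟪nil t v, v⟫ ≠ 0 := by
    by_contra hcon
    push Not at hcon ht1
    obtain ⟨u₀, hu₀⟩ := ht1
    refine hu₀ (herm_nondeg_left hF fun y => eq_zero_of_trace_mul_eq_zero hF fun l => ?_)
    have h := hcon (l • u₀ + y)
    simp only [nil_add, nil_smul, herm_add_left, herm_add_right _ _ _ hF, herm_smul_left,
      herm_smul_right, hcon, mul_zero, add_zero, zero_add] at h
    rw [herm_nil_left hF ht y u₀, ← herm_conj (nil t u₀) y hF] at h
    linear_combination h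
  have hcl : ∀ y z : Fin n → F, h⟪nil t y, nil t z⟫ = 0 := by
    intro y z; rw [herm_nil_left hF ht, nil_nil hF ht, herm_zero_right _ hF]
  have hww := hcl v v
  have hv1 : h⟪nil t v, v⟫ = 1 := by
    have hfix : h⟪nil t v, v⟫ ^ 2 = h⟪nil t v, v⟫ := by
      rw [herm_conj (nil t v) v hF, ← herm_nil_left hF ht]
    have h : h⟪nil t v, v⟫ * (h⟪nil t v, v⟫ - 1) = 0 := by linear_combination hfix
    exact sub_eq_zero.mp ((mul_eq_zero.mp h).resolve_left hv)
  have hvw : h⟪v, nil t v⟫ = 1 := by rw [← herm_nil_left hF ht, hv1]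
  have hw0 : nil t v ≠ 0 := fun h => hv (by rw [h, herm_zero_left])
  generalize hw : nil t v = w at hv hv1 hvw hw0 hww
  -- the complementary part
  set t₁ := t * tv hF w hww with ht₁
  have hnw : act t w = w := by rw [act_eq_nil hF, ← hw, nil_nil hF ht, add_zero]
  have hTt : Commute t (tv hF w hww) := by
    have := tv_conj hF t hww (by rw [hnw]; exact hww)
    rw [tv_eq_of_eq hF hnw (by rw [hnw]; exact hww) hww] at this
    exact mul_inv_eq_iff_eq_mul.mp this.symm
  have ht₁' : t₁ * t₁ = 1 := by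
    rw [ht₁, hTt.symm.mul_mul_mul_comm, ht, tv_mul_self hF, one_mul]
  have ht' : t = t₁ * tv hF w hww := by rw [ht₁, mul_assoc, tv_mul_self hF, mul_one]
  have hnil : ∀ u, nil t₁ u = nil t u + h⟪u, w⟫ • w := by
    intro u
    rw [nil, ht₁, act_mul, act_tv, act_add, act_smul, hnw, act_eq_nil hF t u]
    rw [show u + nil t u + h⟪u, w⟫ • w + u = (u + u) + (nil t u + h⟪u, w⟫ • w) by abel, add_self_zero hF, zero_add]
  have h1w : nil t₁ w = 0 := by rw [hnil, hww, zero_smul, add_zero, ← hw, nil_nil hF ht]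
  have h1v : nil t₁ v = 0 := by rw [hnil, hvw, one_smul, hw, add_self_zero hF]
  by_cases hall : ∀ y, nil t₁ y = 0
  · exact ⟨w, hww, hw0, by rw [ht', eq_one_of_nil hF hall, one_mul]⟩
  exfalso
  have finish : ∀ (a a' b b' : Fin n → F) (ha : h⟪a, a⟫ = 0) (ha' : h⟪a', a'⟫ = 0) (hb : h⟪b, b⟫ = 0)
      (hb' : h⟪b', b'⟫ = 0) (g : SU n F 2), h⟪a, a'⟫ ≠ 0 → h⟪a, b⟫ = 0 → h⟪a, b'⟫ = 0 → h⟪a', b⟫ = 0 →
      h⟪a', b'⟫ = 0 → h⟪b, b'⟫ = 0 → b ≠ 0 → b' ≠ 0 → (∀ k : F, b' ≠ k • b) →
      t * (g * t * g⁻¹) = tv hF a ha * tv hF a' ha' * (tv hF b hb * tv hF b' hb') → False := by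
    intro a a' b b' ha ha' hb hb' g h1 o1 o2 o3 o4 o5 hb0 hb0' hnp he
    obtain ⟨n2, n3⟩ := order_six hF ha ha' hb hb' h1 o1 o2 o3 o4 o5 hb0 hb0' hnp
    rcases h3 _ hx _ (hinv g _ hx) with h | h
    · exact n2 (he ▸ h)
    · exact n3 (he ▸ h)
  push Not at hall
  obtain ⟨y₁, hy₁⟩ := hall
  by_cases hu : ∃ u₀, nil t₁ u₀ ≠ 0 ∧ h⟪nil t₁ u₀, u₀⟫ = 0
  · obtain ⟨u₀, hu0, hub⟩ := hu
    have h1r : ∀ y, h⟪nil t₁ y, w⟫ = 0 ∧ h⟪nil t₁ y, v⟫ = 0 := fun y => ⟨by
      rw [herm_nil_left hF ht₁', h1w, herm_zero_right _ hF], by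
      rw [herm_nil_left hF ht₁', h1v, herm_zero_right _ hF]⟩
    -- move u₀ into the orthogonal of w and v
    obtain ⟨u₁, hu1N, hu1w, hu1v⟩ : ∃ u₁, nil t₁ u₁ = nil t₁ u₀ ∧ h⟪u₁, w⟫ = 0 ∧ h⟪u₁, v⟫ = 0 := by
      refine ⟨u₀ + (h⟪u₀, v⟫ + h⟪u₀, w⟫ * h⟪v, v⟫) • w + h⟪u₀, w⟫ • v, ?_, ?_, ?_⟩
      · rw [nil_add, nil_add, nil_smul, nil_smul, h1w, h1v, smul_zero, smul_zero, add_zero, add_zero]
      · simp only [herm_add_left, herm_smul_left, hww, hvw, mul_zero, add_zero, mul_one]
        linear_combination h⟪u₀, w⟫ * two_eq_zero hF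
      · simp only [herm_add_left, herm_smul_left, hv1, mul_one]
        linear_combination (h⟪u₀, v⟫ + h⟪u₀, w⟫ * h⟪v, v⟫) * two_eq_zero hF
    obtain ⟨x, hxu⟩ : ∃ x, h⟪nil t₁ x, u₁⟫ ≠ 0 := by
      by_contra hcon
      push Not at hcon
      refine hu0 (herm_nondeg_left hF fun y => ?_)
      rw [← hu1N, herm_nil_left hF ht₁']
      exact herm_eq_zero_symm hF (hcon y)
    have hnn : h⟪nil t₁ x, nil t₁ x⟫ = 0 := by
      rw [herm_nil_left hF ht₁', nil_nil hF ht₁', herm_zero_right _ hF]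
    obtain ⟨l, hl⟩ := exists_isotropic_shift hF hnn (x := u₁) hxu
    set u := u₁ + l • nil t₁ x with hu
    have huN : nil t₁ u = nil t₁ u₀ := by
      rw [hu, nil_add, nil_smul, nil_nil hF ht₁', smul_zero, add_zero, hu1N]
    have huw : h⟪u, w⟫ = 0 := by rw [hu, herm_add_left, herm_smul_left, hu1w, (h1r x).1, mul_zero, add_zero]
    have huv : h⟪u, v⟫ = 0 := by rw [hu, herm_add_left, herm_smul_left, hu1v, (h1r x).2, mul_zero, add_zero]
    have hub' : h⟪nil t₁ u, u⟫ = 0 := by
      have hbase : h⟪nil t₁ u₁, u₁⟫ = 0 := by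
        have hd : nil t₁ (u₁ + u₀) = 0 := by rw [nil_add, hu1N, add_self_zero hF]
        have : h⟪nil t₁ u₀, u₁⟫ = h⟪nil t₁ u₀, u₀⟫ := by
          have h' : h⟪nil t₁ u₀, u₁ + u₀⟫ = 0 := by rw [herm_nil_left hF ht₁', hd, herm_zero_right _ hF]
          rw [herm_add_right _ _ _ hF] at h'
          linear_combination h' - h⟪nil t₁ u₀, u₀⟫ * two_eq_zero hF
        rw [hu1N, this, hub]
      rw [huN, hu, herm_add_right _ _ _ hF, herm_smul_right, ← hu1N, hbase,
        herm_nil_left hF ht₁' u₁, nil_nil hF ht₁', herm_zero_right _ hF, mul_zero, add_zero]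
    have hu00 : u ≠ 0 := fun h => hu0 (by rw [← huN, h, nil, act_def, Matrix.mulVec_zero, add_zero])
    have hsu : act t₁ u = u + nil t₁ u := act_eq_nil hF t₁ u
    have hiso' : h⟪act t₁ u, act t₁ u⟫ = 0 := by rw [act_herm]; exact hl
    have hsuw : h⟪act t₁ u, w⟫ = 0 := by rw [hsu, herm_add_left, huw, (h1r u).1, add_zero]
    have hsuv : h⟪act t₁ u, v⟫ = 0 := by rw [hsu, herm_add_left, huv, (h1r u).2, add_zero]
    -- the partner of w
    obtain ⟨al, hal⟩ := exists_isotropic_shift hF hww (x := v) (by rw [hv1]; exact one_ne_zero)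
    set w' := v + al • w with hw'
    have hww' : h⟪w, w'⟫ = 1 := by
      rw [hw', herm_add_right _ _ _ hF, herm_smul_right, hww, mul_zero, add_zero, hv1]
    have hy : h⟪w + w', w + w'⟫ = 0 := by
      simp only [herm_add_left, herm_add_right _ _ _ hF, hww, hal, hww', ← herm_conj w w' hF, one_pow,
        zero_add, add_zero]
      linear_combination two_eq_zero hF
    have hTy : act (tv hF (w + w') hy) w = w' := by
      rw [act_tv, herm_add_right _ _ _ hF, hww, hww', zero_add, one_smul, ← add_assoc, add_self_zero hF, zero_add]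
    have cy1 : Commute (tv hF (w + w') hy) t₁ := by
      have h1y : nil t₁ (w + w') = 0 := by
        rw [nil_add, h1w, hw', nil_add, nil_smul, h1v, h1w, smul_zero, add_zero, add_zero]
      have hfix : act t₁ (w + w') = w + w' := by rw [act_eq_nil hF, h1y, add_zero]
      have := tv_conj hF t₁ hy (by rw [hfix]; exact hy)
      rw [tv_eq_of_eq hF hfix (by rw [hfix]; exact hy) hy] at this
      exact (mul_inv_eq_iff_eq_mul.mp this.symm).symm
    have huy : h⟪u, w + w'⟫ = 0 := by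
      rw [herm_add_right _ _ _ hF, huw, hw', herm_add_right _ _ _ hF, herm_smul_right, huw, huv]
      simp
    have hsuy : h⟪act t₁ u, w + w'⟫ = 0 := by
      rw [herm_add_right _ _ _ hF, hsuw, hw', herm_add_right _ _ _ hF, herm_smul_right, hsuw, hsuv]
      simp
    have hU : tv hF (act t₁ u) hiso' = t₁ * tv hF u hl * t₁ := by
      rw [tv_conj hF t₁ hl hiso', inv_eq_of_mul_eq_one_right ht₁']
    have cu : Commute (tv hF u hl) (tv hF w hww) := tv_comm hF hl hww huw
    have csu : Commute (tv hF (act t₁ u) hiso') (tv hF w hww) := tv_comm hF hiso' hww hsuw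
    have hw'iso : h⟪w', w'⟫ = 0 := hal
    have hTw' : tv hF (w + w') hy * tv hF w hww * (tv hF (w + w') hy) = tv hF w' hw'iso := by
      have := tv_conj hF (tv hF (w + w') hy) hww (by rw [hTy]; exact hw'iso)
      rw [tv_eq_of_eq hF hTy (by rw [hTy]; exact hw'iso) hw'iso, inv_eq_of_mul_eq_one_right (tv_mul_self hF hy)]
        at this
      exact this.symm
    refine finish w w' u (act t₁ u) hww hw'iso hl hiso' (tv hF (w + w') hy * tv hF u hl) ?_
      (herm_eq_zero_symm hF huw) (herm_eq_zero_symm hF hsuw) ?_ ?_ ?_ hu00 ?_ ?_ ?_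
    · rw [hww']; exact one_ne_zero
    · rw [hw', herm_add_left, herm_smul_left, herm_eq_zero_symm hF huw, herm_eq_zero_symm hF huv]; simp
    · rw [hw', herm_add_left, herm_smul_left, herm_eq_zero_symm hF hsuw, herm_eq_zero_symm hF hsuv]; simp
    · rw [hsu, herm_add_right _ _ _ hF, hl, zero_add]
      rw [← herm_nil_left hF ht₁']
      exact hub'
    · intro h
      refine hu00 ?_
      rw [← act_inv_self t₁ u, h, act_def, Matrix.mulVec_zero]
    · intro k hkk
      have := congrArg (fun z => nil t₁ z) hkk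
      simp only [nil_smul] at this
      rw [hsu, nil_add, nil_nil hF ht₁', add_zero] at this
      have hk1 : k = 1 := by
        have h' : (k - 1) • nil t₁ u = 0 := by rw [sub_smul, one_smul, ← this, sub_self]
        exact sub_eq_zero.mp ((smul_eq_zero.mp h').resolve_right (by rw [huN]; exact hu0))
      rw [hk1, one_smul, hsu, add_eq_left, huN] at hkk
      exact hu0 hkk
    · rw [_root_.mul_inv_rev,
        inv_eq_of_mul_eq_one_right (tv_mul_self hF hy), inv_eq_of_mul_eq_one_right (tv_mul_self hF hl), ht']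
      have cyu : Commute (tv hF u hl) (tv hF (w + w') hy) := tv_comm hF hl hy huy
      have hcw : Commute (tv hF w hww) t₁ := by
        have := tv_conj hF t₁ hww (by rw [act_eq_nil hF, h1w, add_zero]; exact hww)
        rw [tv_eq_of_eq hF (by rw [act_eq_nil hF, h1w, add_zero]) _ hww] at this
        exact (mul_inv_eq_iff_eq_mul.mp this.symm).symm
      have cw'u : Commute (tv hF w' hw'iso) (tv hF (act t₁ u) hiso' * tv hF u hl) := by
        rw [← hTw']
        have c1 : Commute (tv hF (w + w') hy) (tv hF (act t₁ u) hiso') :=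
          (tv_comm hF hiso' hy hsuy).symm
        exact (((c1.mul_right cyu.symm)).mul_left (csu.symm.mul_right cu.symm)).mul_left (c1.mul_right cyu.symm)
      generalize hA : tv hF w hww = A at *
      generalize hB : tv hF (w + w') hy = B at *
      generalize hC : tv hF u hl = C at *
      generalize hA' : tv hF w' hw'iso = A' at *
      generalize hC' : tv hF (act t₁ u) hiso' = C' at *
      have hCB : C * B = B * C := cyu.eq
      have hBB : B * B = 1 := hB ▸ tv_mul_self hF hy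
      have hCC : C * C = 1 := hC ▸ tv_mul_self hF hl
      have hC'C : C' * C = C * C' := by
        rw [← hC, ← hC']
        refine (tv_comm hF hiso' hl (herm_eq_zero_symm hF ?_)).eq
        rw [hsu, herm_add_right _ _ _ hF, hl, zero_add, ← herm_nil_left hF ht₁']
        exact hub'
      calc t₁ * A * (B * C * (t₁ * A) * (C * B))
          = t₁ * A * (B * (C * t₁) * (A * C) * B) := by group
        _ = t₁ * A * (B * (C * t₁) * (C * A) * B) := by rw [cu.eq]
        _ = t₁ * A * (B * (t₁ * C' * C) * A * B) := by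
            rw [show t₁ * C' * C = C * t₁ * C by rw [hU]; simp [← mul_assoc, ht₁']]; group
        _ = t₁ * A * (t₁ * (C' * C) * (B * A * B)) := by
            have c2 : Commute B (t₁ * (C' * C)) := by
              refine cy1.mul_right (Commute.mul_right ?_ cyu.symm)
              rw [hU]; exact (cy1.mul_right cyu.symm).mul_right cy1
            rw [show t₁ * C' * C = t₁ * (C' * C) from mul_assoc _ _ _, c2.eq]; group
        _ = A * (t₁ * t₁) * (C' * C) * A' := by rw [hTw', ← hcw.eq]; group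
        _ = A * ((C' * C) * A') := by rw [ht₁', mul_one, mul_assoc]
        _ = A * A' * (C * C') := by rw [← cw'u.eq, hC'C, mul_assoc]
  · -- the complementary part is a transvection
    push Not at hu
    obtain ⟨v₂, hv₂⟩ : ∃ v₂, h⟪nil t₁ v₂, v₂⟫ ≠ 0 := ⟨y₁, hu y₁ hy₁⟩
    have hone : ∀ y, nil t₁ y ≠ 0 → h⟪nil t₁ y, y⟫ = 1 := by
      intro y hy
      have hfix : h⟪nil t₁ y, y⟫ ^ 2 = h⟪nil t₁ y, y⟫ := by
        rw [herm_conj (nil t₁ y) y hF, ← herm_nil_left hF ht₁']
      have h : h⟪nil t₁ y, y⟫ * (h⟪nil t₁ y, y⟫ - 1) = 0 := by linear_combination hfix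
      exact sub_eq_zero.mp ((mul_eq_zero.mp h).resolve_left (hu y hy))
    have hv20 : nil t₁ v₂ ≠ 0 := fun h => hv₂ (by rw [h, herm_zero_left])
    have hb1 := hone v₂ hv20
    have hrank : ∀ y, nil t₁ y = h⟪y, nil t₁ v₂⟫ • nil t₁ v₂ := by
      intro y
      rw [← herm_nil_left hF ht₁' y v₂]
      set y' := y + h⟪nil t₁ y, v₂⟫ • v₂ with hy'
      have hN' : nil t₁ y' = nil t₁ y + h⟪nil t₁ y, v₂⟫ • nil t₁ v₂ := by rw [hy', nil_add, nil_smul]
      suffices hz : nil t₁ y' = 0 by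
        rw [hN'] at hz
        have := congrArg (· + h⟪nil t₁ y, v₂⟫ • nil t₁ v₂) hz
        simp only [add_assoc, add_self_zero hF, add_zero, zero_add] at this
        exact this
      by_contra hne
      have hb2 := hone y' hne
      have hcross : h⟪nil t₁ y', v₂⟫ = 0 := by
        rw [hN', herm_add_left, herm_smul_left, hb1, mul_one]
        linear_combination h⟪nil t₁ y, v₂⟫ * two_eq_zero hF
      have hsum : nil t₁ (y' + v₂) = 0 := by
        by_contra hs
        have := hone _ hs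
        have hcross' : h⟪nil t₁ v₂, y'⟫ = 0 := by
          rw [herm_nil_left hF ht₁']; exact herm_eq_zero_symm hF hcross
        simp only [nil_add, herm_add_left, herm_add_right _ _ _ hF, hb1, hb2, hcross, hcross', add_zero,
          zero_add] at this
        exact one_ne_zero (α := F) (by linear_combination this)
      rw [nil_add] at hsum
      have h' := congrArg (fun z => h⟪z, v₂⟫) hsum
      simp only [herm_add_left, hcross, hb1, herm_zero_left, zero_add] at h'
      exact one_ne_zero h'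
    have hxx : h⟪nil t₁ v₂, nil t₁ v₂⟫ = 0 := by
      rw [herm_nil_left hF ht₁', nil_nil hF ht₁', herm_zero_right _ hF]
    have ht₁tv : t₁ = tv hF (nil t₁ v₂) hxx := ext' fun y => by rw [act_eq_nil hF t₁, act_tv, ← hrank]
    generalize hx' : nil t₁ v₂ = x at hxx ht₁tv hv20
    have hwx : h⟪w, x⟫ = 0 := by rw [← hx', ← herm_nil_left hF ht₁', h1w, herm_zero_left]
    have hvx : h⟪v, x⟫ = 0 := by rw [← hx', ← herm_nil_left hF ht₁', h1v, herm_zero_left]
    have hliwx : LinearIndependent F ![w, x] := by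
      rw [LinearIndependent.pair_iff' hw0]
      intro a ha
      rw [← ha, herm_smul_right, hvw, mul_one] at hvx
      rw [sq, mul_self_eq_zero] at hvx
      rw [hvx, zero_smul] at ha
      exact hv20 ha.symm
    obtain ⟨f, tt, hwf, hxt, hfx, htw, htf⟩ := exists_double_hyp hF hliwx hww hxx hwx
    obtain ⟨o, ho0, ho1, ho⟩ := exists_omega hF
    obtain ⟨g, hg⟩ := exists_conj_pair hF hliwx hww hxx hwx hwf hxt hfx htw htf ho
    have ht12 : t = tv hF x hxx * tv hF w hww := by rw [ht', ht₁tv]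
    obtain ⟨n2, n3⟩ := order_four hF hww hxx hwx hwf hxt hfx htw htf ho hv20 ht12 hg
    rcases h3 _ hx _ (hinv g _ hx) with h | h
    · exact n2 h
    · exact n3 h

end Cfsg.Agent.Lib.ThreeTransUnitary95.Model
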