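import Cfsg.Agent.Lib.ThreeTransUnitary95.Core
import Cfsg.Agent.Lib.ThreeTransUnitary95.Model
import Cfsg.Agent.Lib.MultPSU.Sylow

/-!
Lib/ThreeTransUnitary95/Main: a 3-transposition group with trivial centre whose quotient by a normal 2-group
is `SU n F 2`, `n = 5` or `7 ≤ n`, has that 2-group elementary abelian.
Owner: helper95.
-/

set_option autoImplicit false
set_option linter.unusedSectionVars false

namespace Cfsg.Agent.Lib.ThreeTransUnitary95.Main

open Cfsg Cfsg.Agent.Lib.Unitary Cfsg.Agent.Lib.UnitaryFour.Transvection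
  Cfsg.Agent.Lib.ThreeTransUnitary95 Cfsg.Agent.Lib.ThreeTranspositions

universe u

variable {F : Type} [Field F] [Fintype F] {n : ℕ}

local notation "h⟪" u ", " v "⟫" => hermForm n F 2 u v

/-- For non-orthogonal `p`, `q` every isotropic point is moved into the orthogonal of `q` by a transvection
centred in the orthogonal of `p`. -/
theorem exists_mover (hF : Fintype.card F = 2 ^ 2) (hn : 4 ≤ n) {p q r : Fin n → F} (hp : h⟪p, p⟫ = 0)
    (hq : h⟪q, q⟫ = 0) (hr : h⟪r, r⟫ = 0) (hpq : h⟪p, q⟫ = 1) (hrp : h⟪r, p⟫ ≠ 0) (hrq : h⟪r, q⟫ ≠ 0) :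
    ∃ y : Fin n → F, h⟪y, y⟫ = 0 ∧ y ≠ 0 ∧ h⟪y, p⟫ = 0 ∧ h⟪r + h⟪r, y⟫ • y, q⟫ = 0 := by
  have h2 := two_eq_zero hF
  have hp0 : p ≠ 0 := fun h => by rw [h, herm_zero_left] at hpq; exact zero_ne_one hpq
  have H : Hyp 2 p q := ⟨hp, hq, hpq⟩
  set a := h⟪r, q⟫ with ha
  set b := h⟪r, p⟫ with hb
  by_cases hab : a = b
  · refine ⟨p, hp, hp0, hp, ?_⟩
    rw [herm_add_left, herm_smul_left, hpq, ← hb, ← ha, hab, mul_one]
    exact add_self_zero hF b
  obtain ⟨g, hg, ho, hli⟩ := H.exists_complement hF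
  set r0 := r + a • p + b • q with hr0
  have h1 : h⟪r0, p⟫ = 0 := by
    simp only [hr0, herm_add_left, herm_smul_left, hp, H.symm' hF, ← hb, mul_zero, add_zero, mul_one]
    exact add_self_zero hF b
  have h2' : h⟪r0, q⟫ = 0 := by
    simp only [hr0, herm_add_left, herm_smul_left, hq, hpq, ← ha, mul_zero, add_zero, mul_one]
    exact add_self_zero hF a
  obtain ⟨i, hi⟩ : ∃ i, h⟪r, g i⟫ ≠ 0 := by
    by_contra hc
    push Not at hc
    have hz : r0 = 0 := by
      rw [H.complement_expand hF hg ho hli h1 h2']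
      refine Finset.sum_eq_zero fun i _ => ?_
      have : h⟪r0, g i⟫ = 0 := by
        simp [hr0, herm_add_left, herm_smul_left, hc, herm_eq_zero_symm hF (ho i).1,
          herm_eq_zero_symm hF (ho i).2]
      rw [this, zero_smul]
    have hre : r = a • p + b • q := by
      have := congrArg (· + (a • p + b • q)) hz
      simp only [hr0, zero_add, add_assoc] at this
      rwa [show r + (a • p + (b • q + (a • p + b • q))) = r + ((a • p + b • q) + (a • p + b • q)) by abel,
        add_self_zero hF, add_zero] at this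
    rw [hre] at hr
    simp only [herm_add_left, herm_add_right _ _ _ hF, herm_smul_left, herm_smul_right, hp, hq, hpq,
      H.symm' hF, mul_zero, add_zero, zero_add, mul_one] at hr
    have h3 : a * b * (a + b) = 0 := by linear_combination hr
    exact hab (by linear_combination ((mul_eq_zero.1 h3).resolve_left (mul_ne_zero hrq hrp)) - b * h2)
  haveI : Nontrivial (Fin (n - 2)) := Fin.nontrivial_iff_two_le.mpr (by omega)
  obtain ⟨j, hji⟩ := exists_ne i
  obtain ⟨o, ho0, ho1, hoeq⟩ := exists_omega hF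
  obtain ⟨w0, hw0, hw0p, hw0q, hrw⟩ :
      ∃ w : Fin n → F, h⟪w, w⟫ = 0 ∧ h⟪w, p⟫ = 0 ∧ h⟪w, q⟫ = 0 ∧ h⟪r, w⟫ ≠ 0 := by
    have key : ∀ c : F, c ≠ 0 → h⟪g i + c • g j, g i + c • g j⟫ = 0 ∧ h⟪g i + c • g j, p⟫ = 0 ∧
        h⟪g i + c • g j, q⟫ = 0 ∧ h⟪r, g i + c • g j⟫ = h⟪r, g i⟫ + c ^ 2 * h⟪r, g j⟫ := by
      intro c hc
      refine ⟨?_, by simp [herm_add_left, herm_smul_left, ho], by simp [herm_add_left, herm_smul_left, ho],
        by rw [herm_add_right _ _ _ hF, herm_smul_right]⟩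
      simp [herm_add_left, herm_add_right _ _ _ hF, herm_smul_left, herm_smul_right, hg _ _, hji, hji.symm]
      linear_combination norm_eq_one hF hc + h2
    by_cases h1c : h⟪r, g i⟫ + h⟪r, g j⟫ = 0
    · obtain ⟨k1, k2, k3, k4⟩ := key o ho0
      refine ⟨_, k1, k2, k3, fun h => hi ?_⟩
      rw [k4] at h
      have : (o ^ 2 + 1) * h⟪r, g j⟫ = 0 := by linear_combination h + h1c - h⟪r, g i⟫ * h2
      have hne : o ^ 2 + 1 ≠ 0 := fun e => ho0 (by linear_combination hoeq - e)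
      rw [(mul_eq_zero.1 this).resolve_left hne, add_zero] at h1c
      exact h1c
    · obtain ⟨k1, k2, k3, k4⟩ := key 1 one_ne_zero
      exact ⟨_, k1, k2, k3, by rw [k4, one_pow, one_mul]; exact h1c⟩
  set c := h⟪r, w0⟫ with hc
  set l := ((a + b) / c) ^ 2 with hl
  refine ⟨p + l • w0, ?_, ?_, ?_, ?_⟩
  · simp [herm_add_left, herm_add_right _ _ _ hF, herm_smul_left, herm_smul_right, hp, hw0, hw0p,
      herm_eq_zero_symm hF hw0p]
  · intro h
    have := congrArg (fun z => h⟪z, q⟫) h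
    simp [herm_add_left, herm_smul_left, hpq, hw0q, herm_zero_left] at this
  · simp [herm_add_left, herm_smul_left, hp, hw0p]
  · rw [herm_add_left, herm_smul_left, herm_add_right _ _ _ hF, herm_smul_right, herm_add_left,
      herm_smul_left, hw0q, mul_zero, add_zero, hpq, mul_one, ← ha, ← hb, ← hc]
    have hl2 : l ^ 2 = (a + b) / c := by
      rw [hl, ← pow_mul]
      exact pow_q_q hF _ |> fun e => by simpa [← pow_mul] using e
    rw [hl2, div_mul_cancel₀ _ hrw]
    linear_combination (a + b) * h2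

variable {G : Type u} [Group G] [Finite G] {D : Set G}

/-- The image of a class of 3-transpositions is the class of transvections. -/
theorem transvections (hF : Fintype.card F = 2 ^ 2) (hn4 : 4 ≤ n) (hD : IsThreeTranspositionClass D)
    (π : G →* SU n F 2) (hπ : Function.Surjective π) :
    (∀ c ∈ π '' D, ∃ (v : Fin n → F) (hv : h⟪v, v⟫ = 0), v ≠ 0 ∧ c = tv hF v hv) ∧
      ∀ (v : Fin n → F) (hv : h⟪v, v⟫ = 0), v ≠ 0 → tv hF v hv ∈ π '' D := by
  have hne : ∀ d ∈ D, π d ≠ 1 := by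
    intro d hd h
    have hall : ∀ e ∈ D, π e = 1 := fun e he => by
      obtain ⟨g, rfl⟩ := class_exists_conj hD hd he
      simp [h]
    have hbot : π.range = ⊥ := by
      rw [MonoidHom.range_eq_map, ← hD.2.2, MonoidHom.map_closure, Subgroup.closure_eq_bot_iff]
      rintro _ ⟨e, he, rfl⟩
      exact hall e he
    obtain ⟨o, ho0, ho1, ho⟩ := exists_omega hF
    let i : Fin n := ⟨0, by omega⟩
    let j : Fin n := ⟨1, by omega⟩
    have hij : i ≠ j := by simp [i, j]
    have hw : h⟪(Pi.single i 1 + Pi.single j 1 : Fin n → F), Pi.single i 1 + Pi.single j 1⟫ = 0 := by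
      simp [herm_add_left, herm_add_right _ _ _ hF, herm_std hF, hij, hij.symm]
      exact add_self_zero hF (1 : F)
    have h1 : tv hF _ hw ∈ π.range := MonoidHom.range_eq_top.2 hπ ▸ Subgroup.mem_top _
    rw [hbot, Subgroup.mem_bot] at h1
    refine Cfsg.Agent.S1631.tv_ne_one hF hw (fun h0 => ?_) h1
    simpa [hij] using congrFun h0 i
  have mem : ∀ c ∈ π '' D, ∃ (v : Fin n → F) (hv : h⟪v, v⟫ = 0), v ≠ 0 ∧ c = tv hF v hv := by
    refine Model.member_tv hF ?_ ?_ ?_
    · rintro _ ⟨d, hd, rfl⟩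
      exact ⟨hne d hd, by rw [← map_mul, mul_self hD.1 hd, map_one]⟩
    · rintro _ ⟨d, hd, rfl⟩ _ ⟨e, he, rfl⟩
      rcases hD.1.2 d hd e he with h | h
      · left; rw [← map_mul, ← map_pow, h, map_one]
      · right; rw [← map_mul, ← map_pow, h, map_one]
    · rintro g _ ⟨d, hd, rfl⟩
      obtain ⟨g, rfl⟩ := hπ g
      exact ⟨g * d * g⁻¹, class_conj_mem hD g hd, by simp⟩
  obtain ⟨d₀, hd₀, -⟩ := hD.2.1
  obtain ⟨v₀, hv₀, hv₀0, he₀⟩ := mem _ ⟨d₀, hd₀, rfl⟩
  have all : ∀ (v : Fin n → F) (hv : h⟪v, v⟫ = 0), v ≠ 0 → tv hF v hv ∈ π '' D := by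
    intro v hv hv0
    obtain ⟨M, hdet, hM⟩ := exists_SU_isotropic hF (by omega) hv₀0 hv₀ hv0 hv
    let g : SU n F 2 := ⟨⟨M.1.1, hdet⟩, M.2⟩
    obtain ⟨x, hx⟩ := hπ g
    refine ⟨x * d₀ * x⁻¹, class_conj_mem hD x hd₀, ?_⟩
    rw [map_mul, map_mul, map_inv, hx, he₀, ← tv_conj hF g hv₀ (by rw [act_herm]; exact hv₀),
      tv_eq_of_eq hF (show act g v₀ = v from hM) _ hv]
  exact ⟨mem, all⟩

/-- The facts on `SU n F 2` needed by the core argument. -/
theorem setup (hF : Fintype.card F = 2 ^ 2) (hn : n = 5 ∨ 7 ≤ n)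
    (hD : IsThreeTranspositionClass D) (hZ : Subgroup.center G = ⊥) (π : G →* SU n F 2)
    (hπ : Function.Surjective π) (hk : IsPGroup 2 π.ker) : Core.Setup π D := by
  have hn4 : 4 ≤ n := by omega
  obtain ⟨mem, all⟩ := transvections hF hn4 hD π hπ
  have hperf : commutator (SU n F 2) = ⊤ := commutator_SU hF (by omega) (by omega)
  refine ⟨hD, hZ, hπ, hk, ?_, ?_, hperf, ?_⟩
  · intro A hA B hB C hC hAB
    obtain ⟨p, hp, hp0, rfl⟩ := mem A hA
    obtain ⟨q, hq, hq0, rfl⟩ := mem B hB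
    obtain ⟨r, hr, hr0, rfl⟩ := mem C hC
    by_cases hrp : h⟪r, p⟫ = 0
    · exact Or.inl (tv_comm hF hr hp hrp)
    by_cases hrq : h⟪r, q⟫ = 0
    · exact Or.inr (Or.inl (tv_comm hF hr hq hrq))
    have hpq : h⟪p, q⟫ ≠ 0 := fun h => hAB (tv_comm hF hp hq h)
    set p' := h⟪p, q⟫⁻¹ • p with hp'
    have hp'' : h⟪p', p'⟫ = 0 := by rw [hp', herm_smul_left, herm_smul_right, hp, mul_zero, mul_zero]
    have hp'q : h⟪p', q⟫ = 1 := by rw [hp', herm_smul_left, inv_mul_cancel₀ hpq]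
    have hrp' : h⟪r, p'⟫ ≠ 0 := by
      rw [hp', herm_smul_right]; exact mul_ne_zero (pow_ne_zero _ (inv_ne_zero hpq)) hrp
    obtain ⟨y, hy, hy0, hyp, hyq⟩ := exists_mover hF hn4 hp'' hq hr hp'q hrp' hrq
    have hyp' : h⟪y, p⟫ = 0 := by
      rw [hp', herm_smul_right] at hyp
      exact (mul_eq_zero.1 hyp).resolve_left (pow_ne_zero _ (inv_ne_zero hpq))
    refine Or.inr (Or.inr ⟨_, all y hy hy0, tv_comm hF hy hp hyp', ?_⟩)
    have hry : h⟪act (tv hF y hy) r, act (tv hF y hy) r⟫ = 0 := by rw [act_herm]; exact hr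
    have e := tv_conj hF (tv hF y hy) hr hry
    rw [inv_eq_of_mul_eq_one_right (tv_mul_self hF hy)] at e
    rw [← e]
    exact tv_comm hF hry hq (by rw [act_tv]; exact hyq)
  · obtain ⟨o, ho0, ho1, ho⟩ := exists_omega hF
    have hij : ∀ {a b : ℕ} (ha : a < n) (hb : b < n), a ≠ b → (⟨a, ha⟩ : Fin n) ≠ ⟨b, hb⟩ :=
      fun _ _ h e => h (congrArg Fin.val e)
    let i : Fin n := ⟨0, by omega⟩
    let j : Fin n := ⟨1, by omega⟩
    let k : Fin n := ⟨2, by omega⟩
    let m : Fin n := ⟨3, by omega⟩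
    set e : Fin n → F := Pi.single i 1 + Pi.single j 1 with hedef
    set f : Fin n → F := Pi.single k 1 + Pi.single m 1 with hfdef
    have he : h⟪e, e⟫ = 0 := by
      simp [hedef, herm_add_left, herm_add_right _ _ _ hF, herm_std hF, i, j]
      exact add_self_zero hF (1 : F)
    have hf : h⟪f, f⟫ = 0 := by
      simp [hfdef, herm_add_left, herm_add_right _ _ _ hF, herm_std hF, k, m]
      exact add_self_zero hF (1 : F)
    have hef : h⟪e, f⟫ = 0 := by
      simp [hedef, hfdef, herm_add_left, herm_add_right _ _ _ hF, herm_std hF, i, j, k, m]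
    have hne' : ∀ a : F, e + a • f ≠ 0 := fun a h => by
      simpa [hedef, hfdef, i, j, k, m] using congrFun h i
    have hf0 : f ≠ 0 := fun h => by simpa [hfdef, k, m] using congrFun h k
    have he0 : e ≠ 0 := fun h => by simpa [hedef, i, j] using congrFun h i
    obtain ⟨d1, hd1, e1⟩ := all f hf hf0
    obtain ⟨d2, hd2, e2⟩ := all e he he0
    obtain ⟨d3, hd3, e3⟩ := all _ (herm_line hF he hf hef 1) (hne' 1)
    obtain ⟨d4, hd4, e4⟩ := all _ (herm_line hF he hf hef o) (hne' o)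
    obtain ⟨d5, hd5, e5⟩ := all _ (herm_line hF he hf hef (o + 1)) (hne' (o + 1))
    have hfe : h⟪f, e⟫ = 0 := herm_eq_zero_symm hF hef
    refine ⟨[d1, d2, d3, d4, d5], by simp [hd1, hd2, hd3, hd4, hd5], ?_, ⟨2, rfl⟩, ?_⟩
    · have key : ∀ x ∈ [d1, d2, d3, d4, d5], ∃ a b : F, ∃ hv : h⟪a • e + b • f, a • e + b • f⟫ = 0,
          π x = tv hF (a • e + b • f) hv := by
        have hiso : ∀ a b : F, h⟪a • e + b • f, a • e + b • f⟫ = 0 := fun a b => by
          simp [herm_add_left, herm_add_right _ _ _ hF, herm_smul_left, herm_smul_right, he, hf, hef, hfe]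
        simp only [List.forall_mem_cons, List.not_mem_nil, false_implies, implies_true, and_true]
        refine ⟨⟨0, 1, hiso 0 1, e1.trans (tv_eq_of_eq hF (by simp) _ _)⟩,
          ⟨1, 0, hiso 1 0, e2.trans (tv_eq_of_eq hF (by simp) _ _)⟩,
          ⟨1, 1, hiso 1 1, e3.trans (tv_eq_of_eq hF (by simp) _ _)⟩,
          ⟨1, o, hiso 1 o, e4.trans (tv_eq_of_eq hF (by simp) _ _)⟩,
          ⟨1, o + 1, hiso 1 (o + 1), e5.trans (tv_eq_of_eq hF (by simp) _ _)⟩⟩
      intro x hx y hy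
      obtain ⟨a, b, hv, ex⟩ := key x hx
      obtain ⟨a', b', hv', ey⟩ := key y hy
      rw [ex, ey]
      exact tv_comm hF hv hv' (by
        simp [herm_add_left, herm_add_right _ _ _ hF, herm_smul_left, herm_smul_right, he, hf, hef, hfe])
    · simp only [List.prod_cons, List.prod_nil, mul_one, map_mul, e1, e2, e3, e4, e5]
      exact tv_line hF he hf hef ho
  · intro E _ _ σ hσ hc hp hE
    haveI : Small.{0} E := inferInstance
    let ε : Shrink.{0} E ≃* E := Shrink.mulEquiv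
    haveI : Finite (Shrink.{0} E) := Finite.of_equiv E ε.toEquiv.symm
    let τ : Shrink.{0} E →* SU n F 2 := σ.comp ε.toMonoidHom
    have hmem : ∀ z, z ∈ τ.ker ↔ ε z ∈ σ.ker := fun z => Iff.rfl
    have h1 : τ.ker ≤ Subgroup.center (Shrink.{0} E) := fun z hz => by
      rw [Subgroup.mem_center_iff]
      intro w
      apply ε.injective
      rw [map_mul, map_mul]
      exact Subgroup.mem_center_iff.1 (hc ((hmem z).1 hz)) (ε w)
    have h2 : IsPGroup 2 τ.ker := fun ⟨z, hz⟩ => by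
      obtain ⟨m, hm⟩ := hp ⟨ε z, (hmem z).1 hz⟩
      refine ⟨m, Subtype.ext (ε.injective ?_)⟩
      show ε (z ^ 2 ^ m) = ε 1
      rw [map_pow, map_one]
      exact congrArg Subtype.val hm
    obtain ⟨p, k, hp', hchar, -, hpk⟩ := q_eq_primePow hF
    have hp2 : p = 2 := by
      rcases Nat.eq_zero_or_pos k with rfl | hk'
      · simp at hpk
      · exact (Nat.prime_dvd_prime_iff_eq hp' Nat.prime_two).1 (hpk ▸ dvd_pow_self p hk'.ne')
    subst hp2
    have hsize : Cfsg.Agent.Lib.MultPSU.Size 2 n :=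
      ⟨by omega, fun h => by omega, fun h => by omega, fun h => by omega⟩
    have ht := Cfsg.Agent.Lib.MultPSU.tame_SU_char hF Nat.prime_two hsize (Shrink.{0} E) τ
      (hσ.comp ε.surjective) h1 h2
    refine (Subgroup.eq_bot_iff_forall _).2 fun z hz => ?_
    obtain ⟨z, rfl⟩ := ε.surjective z
    have hmap : (commutator (Shrink.{0} E)).map ε.toMonoidHom = commutator E := by
      rw [commutator_def, commutator_def, Subgroup.map_commutator,
        Subgroup.map_top_of_surjective _ ε.surjective]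
    have hzc : z ∈ commutator (Shrink.{0} E) := by
      obtain ⟨w, hw, hwz⟩ : ε z ∈ (commutator (Shrink.{0} E)).map ε.toMonoidHom := by
        rw [hmap, hE]; exact Subgroup.mem_top _
      rwa [← ε.injective hwz]
    have : z ∈ commutator (Shrink.{0} E) ⊓ τ.ker := ⟨hzc, (hmem z).2 hz⟩
    rw [ht, Subgroup.mem_bot] at this
    rw [this, map_one]

/-- The radical is elementary abelian. -/
theorem radical_elementary (hF : Fintype.card F = 2 ^ 2) (hn : n = 5 ∨ 7 ≤ n)
    (hD : IsThreeTranspositionClass D) (hZ : Subgroup.center G = ⊥) (N : Subgroup G) [N.Normal]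
    (hN : IsPGroup 2 N) (e : G ⧸ N ≃* SU n F 2) : IsElementaryAbelian 2 N := by
  have hker : (e.toMonoidHom.comp (QuotientGroup.mk' N)).ker = N := by
    ext x; simp [MonoidHom.mem_ker]
  have := Core.ker_elementary (setup hF hn hD hZ (e.toMonoidHom.comp (QuotientGroup.mk' N))
    (e.surjective.comp (QuotientGroup.mk'_surjective N)) (by rw [hker]; exact hN))
  rwa [hker] at this

end Cfsg.Agent.Lib.ThreeTransUnitary95.Main
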