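import Cfsg.Agent.Lib.ThreeTransUnitary95.FixFree
import Cfsg.Agent.Lib.ThreeTransUnitary95.Complement

/-!
Lib/ThreeTransUnitary95/Split: the 2-radical of a 3-transposition group with trivial centre and quotient
`SU₅(2)` has a complement.
Owner: helper95.
-/

set_option autoImplicit false

namespace Cfsg.Agent.Lib.ThreeTransUnitary95.Split

open Cfsg Cfsg.Agent.Lib.Unitary Cfsg.Agent.Lib.UnitaryFour.Transvection
  Cfsg.Agent.Lib.ThreeTransUnitary95

universe u

variable {F : Type} [Field F] [Fintype F] {G : Type u} [Group G] [Finite G] {D : Set G}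

/-- The radical has a complement. -/
theorem radical_complement (hF : Fintype.card F = 2 ^ 2) (hD : IsThreeTranspositionClass D)
    (hZ : Subgroup.center G = ⊥) (N : Subgroup G) [N.Normal] (hN : IsPGroup 2 N)
    (e : G ⧸ N ≃* SU 5 F 2) : ∃ K : Subgroup G, N.IsComplement' K := by
  obtain ⟨o, ho0, -, ho⟩ := exists_omega hF
  set π := e.toMonoidHom.comp (QuotientGroup.mk' N)
  have hker : π.ker = N := by ext x; simp [π, MonoidHom.mem_ker]
  have hπ : Function.Surjective π := e.surjective.comp (QuotientGroup.mk'_surjective N)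
  have H : Core.Setup π D := Main.setup hF (Or.inl rfl) hD hZ π hπ (by rw [hker]; exact hN)
  obtain ⟨mem, all⟩ := Main.transvections hF (by norm_num) hD π hπ
  have hfree : ∀ (a : Fin 5 → F) (ha : hermForm 5 F 2 a a = 1) (y : G), π y = Frame.zel hF ho a ha →
      ∀ v : G, π v = 1 → Commute y v → v = 1 := fun a ha y hy v hv hc =>
    FixFree.zel_fix_free hF ho ho0 H all mem ha hv ((FixFree.commute_of_ac H hy hv).2 hc)
  rw [← hker]
  exact Complement.exists_complement hF ho π hπ hfree fun v w hv hw => FixFree.ker_comm H hv hw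

end Cfsg.Agent.Lib.ThreeTransUnitary95.Split
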